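import Groth.Agent.EtDual.K821.Compl
import Groth.Agent.EtDual.K617.PerfUD
import Groth.Agent.EtDual.K855.HomCmp
import Groth.Agent.EtDual.K933.Main

/-!
# Invariance under completion of the complex with supports, in the vocabulary of `K617.PerfUD`

* `qMap_KF`: any `φ : C ⟶ C₁` with `CE w φ`, over any base;
* `qMap_ptS`: the points of `Spec ℤ[x₁, …, x_d]`;
* `hU`: `HU (KF e (psh J)) x a` for `a ∈ rad (x)`.
-/

set_option autoImplicit false
set_option backward.isDefEq.respectTransparency false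
set_option backward.isDefEq.respectTransparency.types false

universe u v w u'
open CategoryTheory CategoryTheory.Limits AlgebraicGeometry Opposite ComplexShape

noncomputable section

namespace K821.HU

open K343.Basic K343.Res K821.Dict K821.Compl K821.Lim K821.Pc K152.Fib K617.UDQuasi K617.TauDesc K933.PerfCat
  K855.HomCmp K617.PerfUD K781.Desc K933.Main

attribute [local instance] isGrothendieckAbelian_AbK

theorem qiso_of_ce {A B : Type u} [CommRing A] [CommRing B] {a : A} {φ : A →+* B} (h : CE a φ) : K23.LocAlg.QIso φ a := by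
  refine ⟨fun n x hx => ?_, fun n y => ?_⟩
  · rw [Ideal.mem_span_singleton] at hx ⊢
    exact h.2 n x hx
  · obtain ⟨x, hx⟩ := h.1 n y
    refine ⟨x, ?_⟩
    rw [Ideal.mem_span_singleton, ← dvd_neg, neg_sub]
    exact hx

section general

variable {K : GrothendieckTopology Scheme.{u}} [Good K] {Y : Scheme.{u}} [ContK K Y] {F : EtCoh.Ab Y}
  (hF : EtCoh.IsTorsion F) (J : InjectiveResolution ((aPullK K Y).obj F))
  (hv : ∀ (V : Over Y) (q : ℕ), 0 < q → IsZero (((uResK K V.hom).rightDerived q).obj ((aPullK K Y).obj F)))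
  {Y₀ : Scheme.{u}} (e : Y₀ ⟶ Y) [IsOpenImmersion e] [QuasiCompact e]

include hF hv in
/-- **Invariance under completion.** -/
theorem qMap_KF {C C₁ : CommRingCat.{u}} (φ : C ⟶ C₁) (w : C) (hφ : CE w φ.hom)
    (k : Spec C ⟶ Y) (k' : Spec C₁ ⟶ Y) (hw : ∀ x : Spec C, k x ∉ Set.range e → w ∈ x.asIdeal)
    (f : Over.mk k' ⟶ Over.mk k) (hf : f.left = Spec.map φ) : QMap (KF e (psh J)) f := by
  have hz : Spec.map (CommRingCat.ofHom φ.hom) ≫ k = k' := by
    have := Over.w f
    rw [hf] at this
    exact this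
  have hff : f = om φ.hom hz := by
    ext1
    exact hf
  rw [hff]
  exact quasiIso_KF K e hF J (fun V => ac_of_isZero K V (hv V) J) φ.hom w (qiso_of_ce hφ) hz
    (fun x hx => by
      by_contra h
      exact hx (hw x h))

end general

section pt

variable {K : GrothendieckTopology Scheme.{u}} {d : ℕ}
variable [Good K] [ContK K (Spec (Pd.{u} d))] {F : EtCoh.Ab (Spec (Pd.{u} d))} (hF : EtCoh.IsTorsion F)
  (J : InjectiveResolution ((aPullK K (Spec (Pd.{u} d))).obj F))
  (hv : ∀ (V : Over (Spec (Pd.{u} d))) (q : ℕ), 0 < q →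
    IsZero (((uResK K V.hom).rightDerived q).obj ((aPullK K (Spec (Pd.{u} d))).obj F)))
  {Y₀ : Scheme.{u}} (e : Y₀ ⟶ Spec (Pd.{u} d)) [IsOpenImmersion e] [QuasiCompact e]
  (he : Set.range e = (PrimeSpectrum.zeroLocus
    (Set.range (MvPolynomial.X : Fin d → MvPolynomial (Fin d) (ULift.{u} ℤ))))ᶜ)

omit [IsOpenImmersion e] [QuasiCompact e] in
include he in
theorem mem_of_notMem_range {C : Type u} [CommRing C] (g : Fin d → C) (w : C)
    (hw : w ∈ (Ideal.span (Set.range g)).radical) (x : Spec (CommRingCat.of C))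
    (hx : Spec.map (CommRingCat.ofHom (evP g)) x ∉ Set.range e) : w ∈ x.asIdeal := by
  have hx : Spec.map (CommRingCat.ofHom (evP g)) x ∈ PrimeSpectrum.zeroLocus
      (Set.range (MvPolynomial.X : Fin d → MvPolynomial (Fin d) (ULift.{u} ℤ))) := by
    by_contra h
    exact hx (he.symm ▸ h)
  have h1 : Ideal.span (Set.range g) ≤ x.asIdeal := by
    rw [Ideal.span_le]
    rintro _ ⟨i, rfl⟩
    have h2 : MvPolynomial.X i ∈ (Spec.map (CommRingCat.ofHom (evP g)) x).asIdeal := hx ⟨i, rfl⟩
    have h3 : evP g (MvPolynomial.X i) ∈ x.asIdeal := h2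
    rwa [evP_X] at h3
  exact (Ideal.IsPrime.radical_le_iff x.isPrime).2 h1 hw

include hF hv he in
/-- **Invariance under completion**, for the points of `Spec ℤ[x₁, …, x_d]`. -/
theorem qMap_ptS {C C₁ : Type u} [CommRing C] [CommRing C₁] (φ : C →+* C₁) (w : C) (hφ : CE w φ)
    (g : Fin d → C) (g' : Fin d → C₁) (h : ∀ i, φ (g i) = g' i) (hw : w ∈ (Ideal.span (Set.range g)).radical) :
    QMap (KF e (psh J)) ((spU (Pd.{u} d)).map (ptUMap φ h).op : ptS C₁ g' ⟶ ptS C g) :=
  qMap_KF hF J hv e (CommRingCat.ofHom φ) w hφ _ _ (fun x hx => mem_of_notMem_range e he g w hw x hx) _ rfl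

include hF hv he in
/-- **Invariance under completion**, for the category of algebras over a ring. -/
theorem hU {R₀ : CommRingCat.{u}} (x : Fin d → R₀) (a : R₀) (ha : a ∈ (Ideal.span (Set.range x)).radical) :
    HU (KF e (psh J)) x a := by
  intro X Y f hf
  have h1 : el a Y ∈ (Ideal.span (Set.range fun i => Y.unop.hom.hom (x i))).radical := by
    have h2 := Ideal.mem_map_of_mem Y.unop.hom.hom ha
    have h3 := Ideal.map_radical_le Y.unop.hom.hom h2
    rw [Ideal.map_span, ← Set.range_comp] at h3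
    exact h3
  have h4 := qMap_KF hF J hv e f.unop.right (el a Y) hf ((ptO x).obj Y).hom ((ptO x).obj X).hom
    (fun y hy => mem_of_notMem_range e he _ (el a Y) h1 y hy) ((ptO x).map f) rfl
  exact h4

end pt

end K821.HU
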