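import Groth.Agent.EtDual.K821.HensQ

/-!
# Completions: homotopy cartesian squares and sections with support

`e : Y₀ ⟶ Y` a quasi-compact open immersion, `φ : C →+* C₁`, `w : C` with `C / w ^ n ≃ C₁ / w ^ n` for all `n` (`QIso`),
`z : Spec C ⟶ Y` with `z x ∈ Y₀` whenever `w ∉ x`, `z₁ : Spec C₁ ⟶ Y` the composition.
`F` a torsion sheaf on the small étale site of `Y`, `I` an injective resolution of `a⁻¹ F` on the big `K`-site.

* `hc`: the square `A(Spec C) ⟶ A(Spec C ×_Y Y₀)`, `A(Spec C₁) ⟶ A(Spec C₁ ×_Y Y₀)` is homotopy cartesian;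
* `quasiIso_KF`: `Γ_Z(Spec C, A) ⟶ Γ_Z(Spec C₁, A)` is a quasi-isomorphism.
-/

set_option autoImplicit false
universe u v w u'
open CategoryTheory CategoryTheory.Limits AlgebraicGeometry Opposite ComplexShape

noncomputable section

namespace K821.Compl

open Groth.Agent.Etcore K821.Lim K821.Nbh Groth.Agent.Etrest.StrictLoc K821.HensQ
open K343.Basic Dict Pc HC K152.Fib Groth.Agent.Htor.H253.AbQuasi K23.LocAlg
open Groth.Agent.Etalg.PtEt Groth.Agent.Etalg.PtEtSystem Groth.Agent.Etalg.PtEtHens Groth.Agent.Etalg.PairHens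

attribute [local instance] isGrothendieckAbelian_AbK

section KF

variable {Y Y₀ : Scheme.{u}} {e : Y₀ ⟶ Y} {A : CochainComplex ((Over Y)ᵒᵖ ⥤ AddCommGrpCat.{w}) ℤ}

/-- Homotopy cartesian squares and sections with support. -/
theorem quasiIso_KF_of_hc (hS : (SK e A).ShortExact) {V₁ V : Over Y} (g : V₁ ⟶ V)
    (h : IsHC (rs A ((cou e).app V)) (rs A ((cou e).app V₁)) (rs A g) (rs A ((E e).map g))) :
    QuasiIso (rs (KF e A) g) := by
  have key : ∀ (W : Over Y) (m : ℤ),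
      Function.Surjective ((rs A ((cou e).app W)).f m) ∧
      Function.Injective ((((evaluation (Over Y)ᵒᵖ AddCommGrpCat.{w}).obj (op W)).mapHomologicalComplex (up ℤ)).map
        (kernel.ι (resC e A)) |>.f m) ∧
      ∀ x, (rs A ((cou e).app W)).f m x = 0 ↔
        ∃ y, ((((evaluation (Over Y)ᵒᵖ AddCommGrpCat.{w}).obj (op W)).mapHomologicalComplex (up ℤ)).map
        (kernel.ι (resC e A)) |>.f m) y = x := by
    intro W m
    have h1 := (shortExact_ev hS W).map_of_exact (HomologicalComplex.eval _ (up ℤ) m)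
    have h2 := (ShortComplex.ab_exact_iff _).1 h1.exact
    refine ⟨(AddCommGrpCat.epi_iff_surjective _).1 h1.epi_g, (AddCommGrpCat.mono_iff_injective _).1 h1.mono_f, ?_⟩
    intro x
    constructor
    · exact h2 x
    · rintro ⟨y, rfl⟩
      exact congr($(((SK e A).map (((evaluation (Over Y)ᵒᵖ AddCommGrpCat.{w}).obj (op W)).mapHomologicalComplex
        (up ℤ)) |>.map (HomologicalComplex.eval _ (up ℤ) m)).zero) y)
  exact quasiIso_ker h (rs_sq A ((cou e).naturality g)) _ _ (rs (KF e A) g)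
    ((NatTrans.mapHomologicalComplex ((evaluation (Over Y)ᵒᵖ AddCommGrpCat.{w}).map g.op) (up ℤ)).naturality
      (kernel.ι (resC e A))).symm
    (fun m => (key V m).1) (fun m => (key V₁ m).1) (fun m => (key V m).2.1) (fun m => (key V₁ m).2.1)
    (fun m => (key V m).2.2) (fun m => (key V₁ m).2.2)

end KF

section Q

variable {Y Y₀ : Scheme.{u}} (e : Y₀ ⟶ Y) (A : CochainComplex ((Over Y)ᵒᵖ ⥤ AddCommGrpCat.{w}) ℤ)

/-- The square of `g : V₁ ⟶ V` and `V ×_Y Y₀ ⟶ V` is homotopy cartesian. -/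
def Q {V₁ V : Over Y} (g : V₁ ⟶ V) : Prop :=
  IsHC (rs A ((cou e).app V)) (rs A ((cou e).app V₁)) (rs A g) (rs A ((E e).map g))

variable {e A}

theorem Q.comp {V₂ V₁ V : Over Y} {g' : V₂ ⟶ V₁} {g : V₁ ⟶ V} (h' : Q e A g') (h : Q e A g) : Q e A (g' ≫ g) := by
  have h1 := IsHC.vcomp h h' (rs_sq _ ((cou e).naturality _)) (rs_sq _ ((cou e).naturality _))
  rw [Q, rs_comp, Functor.map_comp, rs_comp]
  exact h1

theorem Q.of_comp {V₂ V₁ V : Over Y} {g' : V₂ ⟶ V₁} {g : V₁ ⟶ V} (h' : Q e A g') (h : Q e A (g' ≫ g)) : Q e A g := by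
  rw [Q, rs_comp, Functor.map_comp, rs_comp] at h
  exact IsHC.of_vcomp_right h' h (rs_sq _ ((cou e).naturality _)) (rs_sq _ ((cou e).naturality _))

theorem Q.of_quasiIso {V₁ V : Over Y} {g : V₁ ⟶ V} (h : QuasiIso (rs A g)) (h' : QuasiIso (rs A ((E e).map g))) :
    Q e A g := hc_of_quasiIso (rs_sq _ ((cou e).naturality _)) h h'

end Q

section main

variable (K : GrothendieckTopology Scheme.{u}) [Good K] {Y Y₀ : Scheme.{u}} (e : Y₀ ⟶ Y) [IsOpenImmersion e]
  [QuasiCompact e] [ContK K Y] {F : EtCoh.Ab Y} (hF : EtCoh.IsTorsion F)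
  (I : InjectiveResolution ((aPullK K Y).obj F)) (hac : ∀ V, Ac K V I)
  {C C₁ : Type u} [CommRing C] [CommRing C₁] (φ : C →+* C₁) (w : C) (hφ : QIso φ w)
  {z : Spec (CommRingCat.of C) ⟶ Y} {z₁ : Spec (CommRingCat.of C₁) ⟶ Y} (hz : spm φ ≫ z = z₁)
  (hw : ∀ x : PrimeSpectrum C, w ∉ x.asIdeal → z x ∈ Set.range e)

include hF hac hφ hw in
theorem hc_aux {B B₁ : Type u} [CommRing B] [CommRing B₁] [Algebra C B] [Algebra C₁ B₁]
    (hB : Hens2.IsPairHenselization C (Ideal.span {w}) B)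
    (hB₁ : Hens2.IsPairHenselization C₁ (Ideal.span {φ w}) B₁) : Q e (pc K I) (om φ hz) := by
  have h₀ : HenselianRing B (Ideal.span {algebraMap C B w}) := by
    have := hB.1
    rwa [span_map] at this
  have h₁' : HenselianRing B₁ (Ideal.span {algebraMap C₁ B₁ (φ w)}) := by
    have := hB₁.1
    rwa [span_map] at this
  obtain ⟨β, hβ, -⟩ := hB.2 B₁ (Ideal.span {algebraMap C₁ B₁ (φ w)}) ((algebraMap C₁ B₁).comp φ) h₁' (by
    rw [span_map]
    rfl)
  have ht : β (algebraMap C B w) = algebraMap C₁ B₁ (φ w) := congrArg (fun f : C →+* B₁ => f w) hβ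
  have h₁ : HenselianRing B₁ (Ideal.span {β (algebraMap C B w)}) := by
    rw [ht]
    exact h₁'
  have q1 : QIso (algebraMap C B) w := qiso_hens hB
  have q2 : QIso (algebraMap C₁ B₁) (φ w) := qiso_hens hB₁
  have q3 : QIso ((algebraMap C₁ B₁).comp φ) w := qiso_comp φ (algebraMap C₁ B₁) _ rfl hφ q2
  have q4 : QIso β (algebraMap C B w) := qiso_of_comp (algebraMap C B) β _ hβ q1 q3
  obtain ⟨zB, hzB⟩ : ∃ zB, spm (algebraMap C B) ≫ z = zB := ⟨_, rfl⟩
  obtain ⟨zB₁, hzB₁⟩ : ∃ zB₁, spm (algebraMap C₁ B₁) ≫ z₁ = zB₁ := ⟨_, rfl⟩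
  have hzβ : spm β ≫ zB = zB₁ := by
    rw [← hzB, ← hzB₁, ← hz, ← Category.assoc, ← spm_comp, hβ, spm_comp, Category.assoc]
  have hwB : ∀ x : PrimeSpectrum B, algebraMap C B w ∉ x.asIdeal → zB x ∈ Set.range e := by
    intro x hx
    rw [← hzB]
    exact hw (spm (algebraMap C B) x) hx
  have hw₁ : ∀ x : PrimeSpectrum C₁, φ w ∉ x.asIdeal → z₁ x ∈ Set.range e := by
    intro x hx
    rw [← hz]
    exact hw (spm φ x) hx
  have s1 : Q e (pc K I) (om (algebraMap C B) hzB) := hc_hens K e I hac hB z hzB hw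
  have s2 : Q e (pc K I) (om β hzβ) := Q.of_quasiIso
      (quasiIso_hens K hF I hac β _ h₀ h₁ q4 hzβ) (quasiIso_hens_E K e hF I hac β _ h₀ h₁ q4 hzβ hwB)
  have s3 : Q e (pc K I) (om (algebraMap C₁ B₁) hzB₁) := hc_hens K e I hac hB₁ z₁ hzB₁ hw₁
  have hom : om β hzβ ≫ om (algebraMap C B) hzB = om (algebraMap C₁ B₁) hzB₁ ≫ om φ hz := by
    ext1
    change spm β ≫ spm _ = spm _ ≫ spm φ
    rw [← spm_comp, ← spm_comp, hβ]
  have s4 := s2.comp s1
  rw [hom] at s4
  exact s3.of_comp s4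

include hF hac hφ hw in
/-- **Same completion: homotopy cartesian squares.** -/
theorem hc : IsHC (rs (pc K I) ((cou e).app (Over.mk z))) (rs (pc K I) ((cou e).app (Over.mk z₁)))
      (rs (pc K I) (om φ hz)) (rs (pc K I) ((E e).map (om φ hz))) :=
  hc_aux K e hF I hac φ w hφ hz hw (isPairHenselization_Hens C (Ideal.span {w}))
    (isPairHenselization_Hens C₁ (Ideal.span {φ w}))

include hF hac hφ hw in
/-- **Same completion: sections with support.** -/
theorem quasiIso_KF : QuasiIso (rs (KF e (PC I.cochainComplex)) (om φ hz)) :=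
  quasiIso_KF_of_hc (shortExact_SK e I.cochainComplex (fun _ => inferInstance)) _ (hc K e hF I hac φ w hφ hz hw)

end main

end K821.Compl
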