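import Mathlib.CategoryTheory.Abelian.Injective.Ext
import Mathlib.Algebra.Homology.DerivedCategory.Ext.Map
import Groth.Agent.Cohder.MapExtend

/-!
# Exact functors and classes of cocycles in injective resolutions

`mapExactFunctor_extMk`: for `F : C ⥤ D` exact, `R` an injective resolution of `Y`, `R'` an injective resolution of
`Y'` and `φ : F(R) ⟶ R'` a morphism of complexes over `g : F Y ⟶ Y'`, the class of `f : X ⟶ R^n` goes to the class
of `F f ≫ φ^n`.
-/

set_option autoImplicit false
set_option backward.isDefEq.respectTransparency false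

universe t t' w w' u u' v v'

open CategoryTheory Limits Abelian CochainComplex HomComplex

noncomputable section

namespace K821.ExtMap

variable {C : Type u} [Category.{v} C] [Abelian C] {D : Type u'} [Category.{v'} D] [Abelian D]
variable (F : C ⥤ D) [F.Additive] [PreservesFiniteLimits F] [PreservesFiniteColimits F]

open DerivedCategory

section
variable [HasDerivedCategory.{t} C] [HasDerivedCategory.{t'} D]

/-- the derived category class attached to `z : X[0] ⟶ K⟦n⟧` -/
def cl {X Y : C} {K : CochainComplex C ℤ} (i : (CochainComplex.singleFunctor C 0).obj Y ⟶ K) [QuasiIso i] (n : ℤ)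
    (z : ShiftedHom ((CochainComplex.singleFunctor C 0).obj X) K n) :
    ShiftedHom ((DerivedCategory.singleFunctor C 0).obj X) ((DerivedCategory.singleFunctor C 0).obj Y) n :=
  (ShiftedHom.mk₀ _ rfl ((DerivedCategory.singleFunctorIsoCompQ C 0).hom.app X)).comp
    ((ShiftedHom.map z DerivedCategory.Q).comp
      (.mk₀ _ rfl (inv (DerivedCategory.Q.map i) ≫
        (DerivedCategory.singleFunctorIsoCompQ C 0).inv.app Y)) (zero_add _)) (add_zero _)

theorem map_cl {X Y : C} {Y' : D} {K : CochainComplex C ℤ} {K' : CochainComplex D ℤ}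
    (i : (CochainComplex.singleFunctor C 0).obj Y ⟶ K) [QuasiIso i]
    (i' : (CochainComplex.singleFunctor D 0).obj Y' ⟶ K') [QuasiIso i']
    (g : F.obj Y ⟶ Y') (ψ : (F.mapHomologicalComplex (ComplexShape.up ℤ)).obj K ⟶ K')
    (hψ : (F.mapHomologicalComplex (ComplexShape.up ℤ)).map i ≫ ψ =
      (F.mapCochainComplexSingleFunctor 0).hom.app Y ≫ (CochainComplex.singleFunctor D 0).map g ≫ i') (n : ℤ)
    (z : ShiftedHom ((CochainComplex.singleFunctor C 0).obj X) K n) :
    (F.mapDerivedCategorySingleFunctor 0).inv.app X ≫ (cl i n z).map F.mapDerivedCategory ≫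
      ((F.mapDerivedCategorySingleFunctor 0).hom.app Y ≫ (DerivedCategory.singleFunctor D 0).map g)⟦n⟧' =
    cl i' n ((ShiftedHom.mk₀ 0 rfl ((F.mapCochainComplexSingleFunctor 0).inv.app X)).comp
      ((z.map (F.mapHomologicalComplex (ComplexShape.up ℤ))).comp (ShiftedHom.mk₀ 0 rfl ψ) (zero_add _))
        (add_zero _)) := by
  have hτ := ShiftedHom.map_naturality_2 z F.mapDerivedCategoryFactors
  rw [ShiftedHom.comp_map, ShiftedHom.comp_map] at hτ
  simp only [ShiftedHom.mk₀_comp, ShiftedHom.comp_mk₀] at hτ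
  dsimp only [cl]
  simp only [ShiftedHom.map_comp, ShiftedHom.map_mk₀]
  simp only [ShiftedHom.mk₀_comp, ShiftedHom.comp_mk₀]
  rw [← hτ]
  have h1 : (F.mapDerivedCategorySingleFunctor 0).inv.app X ≫
      F.mapDerivedCategory.map ((DerivedCategory.singleFunctorIsoCompQ C 0).hom.app X) ≫
        F.mapDerivedCategoryFactors.hom.app ((CochainComplex.singleFunctor C 0).obj X) =
      (DerivedCategory.singleFunctorIsoCompQ D 0).hom.app (F.obj X) ≫
        DerivedCategory.Q.map ((F.mapCochainComplexSingleFunctor 0).inv.app X) := by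
    simp [Functor.mapDerivedCategorySingleFunctor, Functor.mapCochainComplexSingleFunctor,
      CochainComplex.singleFunctor, CochainComplex.singleFunctors, DerivedCategory.singleFunctorIsoCompQ]
  have h2 : F.mapDerivedCategoryFactors.inv.app K ≫
      F.mapDerivedCategory.map (inv (DerivedCategory.Q.map i) ≫ (DerivedCategory.singleFunctorIsoCompQ C 0).inv.app Y) ≫
        (F.mapDerivedCategorySingleFunctor 0).hom.app Y ≫ (DerivedCategory.singleFunctor D 0).map g =
      DerivedCategory.Q.map ψ ≫ inv (DerivedCategory.Q.map i') ≫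
        (DerivedCategory.singleFunctorIsoCompQ D 0).inv.app Y' := by
    have hq : QuasiIso ((F.mapHomologicalComplex (ComplexShape.up ℤ)).map i) := inferInstance
    have h3 : F.mapDerivedCategoryFactors.inv.app K ≫ F.mapDerivedCategory.map (inv (DerivedCategory.Q.map i)) =
        inv (DerivedCategory.Q.map ((F.mapHomologicalComplex (ComplexShape.up ℤ)).map i)) ≫
          F.mapDerivedCategoryFactors.inv.app _ := by
      rw [IsIso.eq_inv_comp, ← Category.assoc, Functor.map_inv, IsIso.comp_inv_eq]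
      exact F.mapDerivedCategoryFactors.inv.naturality i
    have h4 : F.mapDerivedCategoryFactors.inv.app ((CochainComplex.singleFunctor C 0).obj Y) ≫
        F.mapDerivedCategory.map ((DerivedCategory.singleFunctorIsoCompQ C 0).inv.app Y) ≫
          (F.mapDerivedCategorySingleFunctor 0).hom.app Y =
        DerivedCategory.Q.map ((F.mapCochainComplexSingleFunctor 0).hom.app Y) ≫
          (DerivedCategory.singleFunctorIsoCompQ D 0).inv.app _ := by
      simp [Functor.mapDerivedCategorySingleFunctor, Functor.mapCochainComplexSingleFunctor,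
        CochainComplex.singleFunctor, CochainComplex.singleFunctors, DerivedCategory.singleFunctorIsoCompQ]
    rw [Functor.map_comp, Category.assoc, reassoc_of% h3, reassoc_of% h4, IsIso.inv_comp_eq,
      ← (DerivedCategory.singleFunctorIsoCompQ D 0).inv.naturality g]
    have h5 := congrArg DerivedCategory.Q.map hψ
    rw [Functor.map_comp, Functor.map_comp, Functor.map_comp] at h5
    rw [reassoc_of% h5, IsIso.hom_inv_id_assoc]
    rfl
  simp only [Category.assoc]
  rw [reassoc_of% h1, ← Functor.map_comp, ← Functor.map_comp, ← Functor.map_comp, h2]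

end

section Extend

open Groth.Agent.Cohder.MapExtend

lemma XIso'_hom_eq {ι : Type*} {c : ComplexShape ι} (K : HomologicalComplex C c) {o : Option ι} {a : ι}
    (h : o = some a) :
    (XIso' F K o).hom = F.map (HomologicalComplex.extend.XIso K h).hom ≫
      (HomologicalComplex.extend.XIso ((F.mapHomologicalComplex c).obj K) h).inv := by
  subst h
  change 𝟙 _ = F.map (𝟙 _) ≫ 𝟙 _
  rw [F.map_id, Category.comp_id]

lemma mapExtendIso_hom_f {ι ι' : Type*} {c : ComplexShape ι} {c' : ComplexShape ι'} (K : HomologicalComplex C c)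
    (e : c.Embedding c') {i : ι} {i' : ι'} (h : e.f i = i') :
    (mapExtendIso F K e).hom.f i' = F.map (K.extendXIso e h).hom ≫
      (((F.mapHomologicalComplex c).obj K).extendXIso e h).inv :=
  XIso'_hom_eq F K (e.r_eq_some h)

variable {Y : C} {Y' : D} (R : InjectiveResolution Y) (R' : InjectiveResolution Y')
    (φ : (F.mapHomologicalComplex (ComplexShape.up ℕ)).obj R.cocomplex ⟶ R'.cocomplex)

/-- The extension of `φ` to complexes indexed by the integers. -/
def psi : (F.mapHomologicalComplex (ComplexShape.up ℤ)).obj R.cochainComplex ⟶ R'.cochainComplex :=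
  (mapExtendIso F R.cocomplex ComplexShape.embeddingUpNat).hom ≫
    HomologicalComplex.extendMap φ ComplexShape.embeddingUpNat

lemma psi_f (n : ℕ) (m : ℤ) (h : (n : ℤ) = m) : (psi F R R' φ).f m =
    F.map (R.cochainComplexXIso m n h).hom ≫ φ.f n ≫ (R'.cochainComplexXIso m n h).inv := by
  unfold psi
  rw [HomologicalComplex.comp_f, mapExtendIso_hom_f F R.cocomplex ComplexShape.embeddingUpNat (i := n) h,
    HomologicalComplex.extendMap_f φ ComplexShape.embeddingUpNat (i := n) h, Category.assoc, Iso.inv_hom_id_assoc]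
  rfl

lemma map_ι'_comp_psi (g : F.obj Y ⟶ Y') (hφ : F.map (R.ι.f 0) ≫ φ.f 0 = g ≫ R'.ι.f 0) :
    (F.mapHomologicalComplex (ComplexShape.up ℤ)).map R.ι' ≫ psi F R R' φ =
      (F.mapCochainComplexSingleFunctor 0).hom.app Y ≫ (CochainComplex.singleFunctor D 0).map g ≫ R'.ι' := by
  rw [← cancel_epi ((F.mapCochainComplexSingleFunctor 0).inv.app Y), Iso.inv_hom_id_app_assoc]
  refine HomologicalComplex.from_single_hom_ext ?_
  rw [HomologicalComplex.comp_f, HomologicalComplex.comp_f, HomologicalComplex.comp_f, psi_f F R R' φ 0 0 rfl]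
  change ((F.mapCochainComplexSingleFunctor 0).inv.app Y).f 0 ≫ F.map (R.ι'.f 0) ≫ _ = _
  rw [R.ι'_f_zero, R'.ι'_f_zero]
  have h1 : ((F.mapCochainComplexSingleFunctor 0).inv.app Y).f 0 =
      (HomologicalComplex.singleObjXSelf (ComplexShape.up ℤ) 0 (F.obj Y)).hom ≫
        F.map (HomologicalComplex.singleObjXSelf (ComplexShape.up ℤ) 0 Y).inv :=
    HomologicalComplex.singleMapHomologicalComplex_inv_app_self F (ComplexShape.up ℤ) 0 Y
  have h2 : ((CochainComplex.singleFunctor D 0).map g).f 0 =
      (HomologicalComplex.singleObjXSelf (ComplexShape.up ℤ) 0 (F.obj Y)).hom ≫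
      g ≫ (HomologicalComplex.singleObjXSelf (ComplexShape.up ℤ) 0 Y').inv :=
    HomologicalComplex.single_map_f_self _ _ _
  rw [h1, h2]
  simp only [Functor.map_comp, Category.assoc]
  rw [← F.map_comp_assoc, Iso.inv_hom_id, F.map_id, Category.id_comp, ← F.map_comp_assoc (Iso.inv _), Iso.inv_hom_id,
    F.map_id, Category.id_comp, Iso.inv_hom_id_assoc, reassoc_of% hφ]

lemma comm_zero {X : C} {n m : ℕ} (f : X ⟶ R.cocomplex.X n) (hf : f ≫ R.cocomplex.d n m = 0) :
    (F.map f ≫ φ.f n) ≫ R'.cocomplex.d n m = 0 := by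
  rw [Category.assoc, φ.comm]
  change F.map f ≫ F.map (R.cocomplex.d n m) ≫ φ.f m = 0
  rw [← F.map_comp_assoc, hf, F.map_zero, zero_comp]

lemma equivHomShift_symm_f {K L : CochainComplex C ℤ} {n : ℤ} (z : Cocycle K L n) (p q : ℤ) (hpq : p + n = q) :
    (Cocycle.equivHomShift.symm z).f p = z.1.v p q hpq ≫ (L.shiftFunctorObjXIso n p q hpq.symm).inv := by
  change (z.1.rightShift n 0 (zero_add n)).v p p (add_zero p) = _
  rw [Cochain.rightShift_v _ _ _ _ _ _ _ q hpq]

lemma XIsoOfEq_comm {K : CochainComplex C ℤ} {K' : CochainComplex D ℤ}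
    (ψ : (F.mapHomologicalComplex (ComplexShape.up ℤ)).obj K ⟶ K') (p q : ℤ) (h : p = q) :
    F.map (K.XIsoOfEq h).inv ≫ ψ.f p = ψ.f q ≫ (K'.XIsoOfEq h).inv := by
  subst h
  change F.map (𝟙 _) ≫ _ = _ ≫ 𝟙 _
  rw [F.map_id, Category.comp_id]
  exact Category.id_comp _

lemma shiftedHom_map_f {K L : CochainComplex C ℤ} {n : ℤ} (z : ShiftedHom K L n) (p : ℤ) :
    (z.map (F.mapHomologicalComplex (ComplexShape.up ℤ))).f p = F.map (z.f p) := by
  unfold ShiftedHom.map
  rw [HomologicalComplex.comp_f]
  exact Category.comp_id _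

variable [HasExt.{w} C] [HasExt.{w'} D]

theorem mapExactFunctor_extMk {X : C} (g : F.obj Y ⟶ Y') (hφ : F.map (R.ι.f 0) ≫ φ.f 0 = g ≫ R'.ι.f 0)
    {n : ℕ} (f : X ⟶ R.cocomplex.X n) (m : ℕ) (hm : n + 1 = m) (hf : f ≫ R.cocomplex.d n m = 0) :
    ((R.extMk f m hm hf).mapExactFunctor F).comp (Ext.mk₀ g) (add_zero _) =
      R'.extMk (F.map f ≫ φ.f n) m hm (comm_zero F R R' φ f hf) := by
  have := HasDerivedCategory.standard C
  have := HasDerivedCategory.standard D
  ext
  have hz : ∀ (hz : (f ≫ (R.cochainComplexXIso n n rfl).inv) ≫ R.cochainComplex.d n m = 0)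
      (hz' : ((F.map f ≫ φ.f n) ≫ (R'.cochainComplexXIso n n rfl).inv) ≫ R'.cochainComplex.d n m = 0),
      Cocycle.equivHomShift.symm (Cocycle.fromSingleMk ((F.map f ≫ φ.f n) ≫ (R'.cochainComplexXIso n n rfl).inv)
        (zero_add _) m (by lia) hz') =
      (ShiftedHom.mk₀ 0 rfl ((F.mapCochainComplexSingleFunctor 0).inv.app X)).comp
        ((ShiftedHom.map (Cocycle.equivHomShift.symm (Cocycle.fromSingleMk (f ≫ (R.cochainComplexXIso n n rfl).inv)
          (zero_add _) m (by lia) hz)) (F.mapHomologicalComplex (ComplexShape.up ℤ))).comp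
            (ShiftedHom.mk₀ 0 rfl (psi F R R' φ)) (zero_add _)) (add_zero _) := by
    intro hz hz'
    rw [ShiftedHom.mk₀_comp, ShiftedHom.comp_mk₀]
    apply HomologicalComplex.from_single_hom_ext
    rw [HomologicalComplex.comp_f, HomologicalComplex.comp_f, equivHomShift_symm_f _ 0 n (zero_add _)]
    rw [shiftedHom_map_f, equivHomShift_symm_f _ 0 n (zero_add _)]
    have h1 : ((F.mapCochainComplexSingleFunctor 0).inv.app X).f 0 =
        (HomologicalComplex.singleObjXSelf (ComplexShape.up ℤ) 0 (F.obj X)).hom ≫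
          F.map (HomologicalComplex.singleObjXSelf (ComplexShape.up ℤ) 0 X).inv :=
      HomologicalComplex.singleMapHomologicalComplex_inv_app_self F (ComplexShape.up ℤ) 0 X
    have h2 : (Cocycle.fromSingleMk (f ≫ (R.cochainComplexXIso n n rfl).inv) (zero_add _) m (by lia) hz).1.v 0 n
        (zero_add _) = (HomologicalComplex.singleObjXSelf (ComplexShape.up ℤ) 0 X).hom ≫
          (f ≫ (R.cochainComplexXIso n n rfl).inv) := Cochain.fromSingleMk_v _ _
    have h3 : (Cocycle.fromSingleMk ((F.map f ≫ φ.f n) ≫ (R'.cochainComplexXIso n n rfl).inv) (zero_add _) m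
        (by lia) hz').1.v 0 n (zero_add _) = (HomologicalComplex.singleObjXSelf (ComplexShape.up ℤ) 0 (F.obj X)).hom ≫
          ((F.map f ≫ φ.f n) ≫ (R'.cochainComplexXIso n n rfl).inv) := Cochain.fromSingleMk_v _ _
    have h4 : F.map (R.cochainComplex.shiftFunctorObjXIso (n : ℤ) 0 (n : ℤ) (zero_add _).symm).inv ≫
        ((CategoryTheory.shiftFunctor (HomologicalComplex D (ComplexShape.up ℤ)) (n : ℤ)).map (psi F R R' φ)).f 0 =
        (psi F R R' φ).f n ≫ (R'.cochainComplex.shiftFunctorObjXIso (n : ℤ) 0 (n : ℤ) (zero_add _).symm).inv :=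
      XIsoOfEq_comm F (psi F R R' φ) _ _ _
    rw [h1, h2, h3]
    simp only [Functor.map_comp, Category.assoc]
    rw [h4, psi_f F R R' φ n n rfl, ← F.map_comp_assoc (Iso.inv _), Iso.inv_hom_id, F.map_id, Category.id_comp]
    simp only [Category.assoc]
    rw [← F.map_comp_assoc (Iso.inv _), Iso.inv_hom_id, F.map_id, Category.id_comp]
  have key := map_cl F R.ι' R'.ι' g (psi F R R' φ) (map_ι'_comp_psi F R R' φ g hφ) (n : ℤ)
    (Cocycle.equivHomShift.symm (Cocycle.fromSingleMk (f ≫ (R.cochainComplexXIso n n rfl).inv)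
          (zero_add _) m (by lia) (by simp [R.cochainComplex_d _ _ _ _ rfl rfl, reassoc_of% hf])))
  rw [← hz _ (by
    rw [R'.cochainComplex_d _ _ _ _ rfl rfl, Category.assoc, Iso.inv_hom_id_assoc, ← Category.assoc,
      comm_zero F R R' φ f hf, zero_comp])] at key
  rw [InjectiveResolution.extMk_hom]
  refine Eq.trans ?_ key
  rw [Ext.comp_hom, Ext.mapExactFunctor_hom, Ext.mk₀_hom, InjectiveResolution.extMk_hom]
  refine (ShiftedHom.comp_mk₀ _ _ _ _).trans ?_
  rw [Functor.map_comp, Category.assoc, Category.assoc]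
  rfl

end Extend

end K821.ExtMap
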