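import Groth.Agent.EtDual.K821.ResNat
import Groth.Agent.EtDual.K821.ExtMap
import Groth.Agent.EtpbcA.SectCoh
import Groth.Agent.EtpbcB.HRel
import Groth.Agent.Etcore.HpullCalc
import Groth.Agent.HTop.K343.Res
import Groth.Agent.Etrest.RAcyc

/-!
# Natural dictionary: sections of an injective resolution on a big site and étale cohomology

`K` a topology on schemes with `Good K`, `F` a small étale sheaf on `X`, `I` an injective resolution of `a⁻¹ F` in
abelian sheaves on the big `K`-site of `X`; for `V : Over X` we assume that `I|_V` is exact in positive degrees (`Ac`;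
this follows from `R^q (-|_V) (a⁻¹ F) = 0`, `q > 0`).

* `cls V n : cocycles in I^n(V) →+ H^n_ét(V, F|_V)`: surjective (`cls_surjective`), kernel the coboundaries
  (`cls_eq_zero_iff`);
* `cls_res`: for `g : V₁ ⟶ V` in `Over X`, `cls V₁ n (z|_{V₁}) = g^* (cls V n z)` where `g^* = EtCore.HpullVia`.
-/

set_option autoImplicit false
universe u
open CategoryTheory CategoryTheory.Limits AlgebraicGeometry Opposite CategoryTheory.Abelian

noncomputable section

namespace K821.Dict

open Groth.Agent.Etrest Groth.Agent.Etrest.BigEtSite Groth.Agent.Etrest.BigPush Groth.Agent.Etcore.PullCoh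
open K343.Basic K343.Res
open Groth.Agent.EtpbcA.SectCoh Groth.Agent.EtpbcB.HRel Groth.Agent.Sga4B.ExtCmp ResNat

attribute [local instance] isGrothendieckAbelian_AbK

variable (K : GrothendieckTopology Scheme.{u}) [Good K] {X : Scheme.{u}}

/-- The restriction of the resolution `I` to the small étale site of `V` is exact in positive degrees. -/
def Ac (V : Over X) {G : AbK K X} (I : InjectiveResolution G) : Prop :=
  ∀ n, (((uResK K V.hom).mapHomologicalComplex (ComplexShape.up ℕ)).obj I.cocomplex).ExactAt (n + 1)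

theorem ac_of_isZero (V : Over X) {G : AbK K X}
    (hv : ∀ q : ℕ, 0 < q → IsZero (((uResK K V.hom).rightDerived q).obj G)) (I : InjectiveResolution G) :
    Ac K V I :=
  fun n => RAcyc.exactAt_of_isZero_rightDerived (uResK K V.hom) I (n + 1) (hv (n + 1) n.succ_pos)

section general

universe v w w'

open CochainComplex.HomComplex in
theorem extMk_zero_injective {A : Type v} [Category.{w} A] [Abelian A] [HasExt.{w'} A] {Y Z : A}
    (I : InjectiveResolution Y) (f : Z ⟶ I.cocomplex.X 0) (hf : f ≫ I.cocomplex.d 0 1 = 0)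
    (h : I.extMk f 1 rfl hf = 0) : f = 0 := by
  simp only [← I.extEquivCohomologyClass.apply_eq_iff_eq,
    InjectiveResolution.extEquivCohomologyClass_extMk,
    InjectiveResolution.extEquivCohomologyClass_zero, CohomologyClass.mk_eq_zero_iff] at h
  rw [Cocycle.fromSingleMk_mem_coboundaries_iff _ _ _ _ _ (-1) (by lia)] at h
  obtain ⟨g, hg⟩ := h
  have hz : IsZero (I.cochainComplex.X (-1)) :=
    I.cochainComplex.isZero_of_isStrictlyGE 0 (-1) (by lia)
  rw [hz.eq_zero_of_tgt g, zero_comp] at hg
  rw [← cancel_mono (I.cochainComplexXIso 0 0 rfl).inv, zero_comp]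
  exact hg.symm

end general

variable [ContK K X] {F : EtCoh.Ab X} (I : InjectiveResolution ((aPullK K X).obj F))

section cls

variable (V : Over X) (h : Ac K V I)

/-- The restriction to the small étale site of `V` of the injective resolution `I`. -/
def resV : InjectiveResolution ((EtCoh.pull V.hom).obj F) :=
  congrInjectiveResolution ((pullIsoK K V.hom).app F).symm
    (RAcyc.mapResolution (uResK K V.hom) I (fun J _ => injective_uResK K V.hom J) h)

theorem resV_ι : (resV K I V h).ι.f 0 = (pullIsoK K V.hom).inv.app F ≫ (uResK K V.hom).map (I.ι.f 0) := by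
  change (((CochainComplex.single₀ _).map ((pullIsoK K V.hom).app F).symm.hom) ≫
    (CochainComplex.fromSingle₀Equiv _ _).symm _).f 0 = _
  rw [HomologicalComplex.comp_f]
  rfl

/-- Sections over `V` as sections over `V.left` of the restriction. -/
def sectIso (G : AbK K X) : G.obj.obj (op V) ≃+ EtCoh.sect ((uResK K V.hom).obj G) (EtCoh.top V.left) :=
  (G.obj.mapIso (ufTop V.hom).op).addCommGroupIsoToAddEquiv

omit [ContK K X] in
theorem sectIso_apply (G : AbK K X) (z : G.obj.obj (op V)) :
    sectIso K V G z = G.obj.map (ufTop V.hom).hom.op z := rfl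

omit [ContK K X] in
theorem sectIso_naturality {G G' : AbK K X} (f : G ⟶ G') (z : G.obj.obj (op V)) :
    sectIso K V G' (f.hom.app (op V) z) =
      ((uResK K V.hom).map f).hom.app (op (EtCoh.top V.left)) (sectIso K V G z) :=
  (NatTrans.naturality_apply f.hom (ufTop V.hom).hom.op z).symm

/-- Sections over `V` as morphisms from `ℤ`. -/
def toHomG (G : AbK K X) : G.obj.obj (op V) ≃+
    ((constantSheaf V.left.smallEtaleTopology AddCommGrpCat.{u + 1}).obj (AddCommGrpCat.of (ULift ℤ)) ⟶
      (uResK K V.hom).obj G) :=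
  (sectIso K V G).trans (homEquivTop ((uResK K V.hom).obj G)).symm

omit [ContK K X] in
theorem homEquivTop_toHomG (G : AbK K X) (z : G.obj.obj (op V)) :
    homEquivTop ((uResK K V.hom).obj G) (toHomG K V G z) = sectIso K V G z :=
  (homEquivTop _).apply_symm_apply _

omit [ContK K X] in
theorem toHomG_naturality {G G' : AbK K X} (f : G ⟶ G') (z : G.obj.obj (op V)) :
    toHomG K V G' (f.hom.app (op V) z) = toHomG K V G z ≫ (uResK K V.hom).map f := by
  apply (homEquivTop ((uResK K V.hom).obj G')).injective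
  rw [homEquivTop_toHomG, sectIso_naturality, homEquivTop_comp, homEquivTop_toHomG]

/-- The differential on sections over `V`. -/
def dV (n : ℕ) : (I.cocomplex.X n).obj.obj (op V) →+ (I.cocomplex.X (n + 1)).obj.obj (op V) :=
  ((I.cocomplex.d n (n + 1)).hom.app (op V)).hom

omit [Good K] in
theorem dV_apply (n : ℕ) (z : (I.cocomplex.X n).obj.obj (op V)) :
    dV K I V n z = (I.cocomplex.d n (n + 1)).hom.app (op V) z := rfl

/-- Sections of `I^n` over `V` as morphisms to the restricted resolution. -/
def toHom (n : ℕ) : (I.cocomplex.X n).obj.obj (op V) ≃+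
    ((constantSheaf V.left.smallEtaleTopology AddCommGrpCat.{u + 1}).obj (AddCommGrpCat.of (ULift ℤ)) ⟶
      (resV K I V h).cocomplex.X n) :=
  toHomG K V (I.cocomplex.X n)

theorem toHom_dV (n : ℕ) (z : (I.cocomplex.X n).obj.obj (op V)) :
    toHom K I V h (n + 1) (dV K I V n z) = toHom K I V h n z ≫ (resV K I V h).cocomplex.d n (n + 1) :=
  toHomG_naturality K V (I.cocomplex.d n (n + 1)) z

/-- The cohomology class of a cocycle. -/
def cls (n : ℕ) : (dV K I V n).ker →+ EtCoh.H V.left ((EtCoh.pull V.hom).obj F) n :=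
  absCls (resV K I V h) (fun n => (I.cocomplex.X n).obj.obj (op V)) (dV K I V) (toHom K I V h)
    (toHom_dV K I V h) n

theorem cls_surjective (n : ℕ) : Function.Surjective (cls K I V h n) :=
  absCls_surjective (resV K I V h) (fun n => (I.cocomplex.X n).obj.obj (op V)) (dV K I V) (toHom K I V h)
    (toHom_dV K I V h) n

theorem cls_eq_zero_iff {n : ℕ} (z : (dV K I V (n + 1)).ker) :
    cls K I V h (n + 1) z = 0 ↔ ∃ y : (I.cocomplex.X n).obj.obj (op V), dV K I V n y = z :=
  absCls_eq_zero_iff (resV K I V h) (fun n => (I.cocomplex.X n).obj.obj (op V)) (dV K I V) (toHom K I V h)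
    (toHom_dV K I V h) z

theorem cls_zero_injective : Function.Injective (cls K I V h 0) := by
  rw [injective_iff_map_eq_zero]
  intro z hz
  have h1 := extMk_zero_injective (resV K I V h) (toHom K I V h 0 z)
    (e_comp_d _ _ _ _ (toHom_dV K I V h) 0 z) hz
  exact Subtype.ext ((toHom K I V h 0).injective (h1.trans (map_zero _).symm))

end cls

section naturality

variable {V₁ V : Over X} (g : V₁ ⟶ V) (h₁ : Ac K V₁ I) (h : Ac K V I)

/-- Restriction of sections. -/
def resS (n : ℕ) : (I.cocomplex.X n).obj.obj (op V) →+ (I.cocomplex.X n).obj.obj (op V₁) :=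
  ((I.cocomplex.X n).obj.map g.op).hom

omit [Good K] in
theorem resS_apply (n : ℕ) (z : (I.cocomplex.X n).obj.obj (op V)) :
    resS K I g n z = (I.cocomplex.X n).obj.map g.op z := rfl

omit [Good K] in
theorem dV_resS (n : ℕ) (z : (I.cocomplex.X n).obj.obj (op V)) :
    dV K I V₁ n (resS K I g n z) = resS K I g (n + 1) (dV K I V n z) :=
  (NatTrans.naturality_apply (I.cocomplex.d n (n + 1)).hom g.op z)

/-- Restriction of cocycles. -/
def resZ (n : ℕ) : (dV K I V n).ker →+ (dV K I V₁ n).ker :=
  ((resS K I g n).comp (AddSubgroup.subtype _)).codRestrict _ (fun z => by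
    rw [AddMonoidHom.mem_ker]
    change dV K I V₁ n (resS K I g n z) = 0
    rw [dV_resS, z.2, map_zero])

omit [Good K] in
theorem coe_resZ (n : ℕ) (z : (dV K I V n).ker) :
    (resZ K I g n z : (I.cocomplex.X n).obj.obj (op V₁)) = resS K I g n z := rfl

/-- The morphism of complexes `g⁻¹ (I|_V) ⟶ I|_{V₁}`. -/
def phi : ((EtCoh.pull g.left).mapHomologicalComplex (ComplexShape.up ℕ)).obj (resV K I V h).cocomplex ⟶
    (resV K I V₁ h₁).cocomplex where
  f n := (thmK g.left V.hom V₁.hom (Over.w g) K).app (I.cocomplex.X n)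
  comm' i j _ := ((thmK g.left V.hom V₁.hom (Over.w g) K).naturality (I.cocomplex.d i j)).symm

theorem phi_ι : (EtCoh.pull g.left).map ((resV K I V h).ι.f 0) ≫ (phi K I g h₁ h).f 0 =
    th g.left V.hom V₁.hom (Over.w g) F ≫ (resV K I V₁ h₁).ι.f 0 := by
  rw [resV_ι, resV_ι]
  have h2 := (thmK g.left V.hom V₁.hom (Over.w g) K).naturality (I.ι.f 0)
  have h3 := thmK_pullIsoK g.left V.hom V₁.hom (Over.w g) K F
  refine (congrArg (fun k => k ≫ (thmK g.left V.hom V₁.hom (Over.w g) K).app (I.cocomplex.X 0))
    (Functor.map_comp (EtCoh.pull g.left) _ _)).trans ?_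
  refine (Category.assoc _ _ _).trans ?_
  refine (congrArg (fun k => _ ≫ k) h2).trans ?_
  refine (Category.assoc _ _ _).symm.trans ?_
  refine (congrArg (fun k => k ≫ _) h3).trans ?_
  exact Category.assoc _ _ _

omit [ContK K X] [Good K] in
theorem over_key : (uf V₁.hom).map (EtCore.bcTopIso g.left).inv ≫
    (sig g.left V.hom V₁.hom (Over.w g)).app (EtCoh.top V.left) ≫ (ufTop V.hom).hom =
      (ufTop V₁.hom).hom ≫ g := by
  apply Over.OverMorphism.ext
  have h1 : (EtCore.bcTopIso g.left).inv.left ≫ pullback.snd (𝟙 V.left) g.left = 𝟙 _ :=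
    MorphismProperty.Over.w (EtCore.bcTopIso g.left).inv
  have h2 : pullback.fst (𝟙 V.left) g.left ≫ 𝟙 V.left = pullback.snd (𝟙 V.left) g.left ≫ g.left :=
    pullback.condition
  refine (congrArg (fun k => (EtCore.bcTopIso g.left).inv.left ≫ k) h2).trans ?_
  exact (Category.assoc _ _ _).symm.trans (congrArg (fun k => k ≫ g.left) h1)

omit [ContK K X] in
theorem toHomG_res (G : AbK K X) (z : G.obj.obj (op V)) :
    (EtCore.pullConst g.left ℤ).inv ≫ (EtCoh.pull g.left).map (toHomG K V G z) ≫
      (thmK g.left V.hom V₁.hom (Over.w g) K).app G = toHomG K V₁ G (G.obj.map g.op z) := by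
  apply (homEquivTop ((uResK K V₁.hom).obj G)).injective
  refine Eq.trans ?_ (homEquivTop_toHomG K V₁ G _).symm
  refine (congrArg (homEquivTop ((uResK K V₁.hom).obj G)) (Category.assoc _ _ _).symm).trans ?_
  refine (homEquivTop_comp _ _).trans ?_
  have h0 := Groth.Agent.Etcore.HpullCalc.constAdj_homEquiv_pullConstIso_inv g.left
    (AddCommGrpCat.of (ULift.{u+1} ℤ)) (toHomG K V G z)
  have h1 : homEquivTop ((EtCoh.pull g.left).obj ((uResK K V.hom).obj G))
      ((EtCore.pullConst g.left ℤ).inv ≫ (EtCoh.pull g.left).map (toHomG K V G z)) =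
      (Groth.Agent.Etcore.HpullCalc.unitSec g.left ((uResK K V.hom).obj G)).hom
        (homEquivTop ((uResK K V.hom).obj G) (toHomG K V G z)) :=
    congrArg (fun k => k.hom (ULift.up (1 : ℤ))) h0
  have h2 : (Groth.Agent.Etcore.HpullCalc.unitSec g.left ((uResK K V.hom).obj G)).hom (sectIso K V G z) =
      ((EtCoh.pull g.left).obj ((uResK K V.hom).obj G)).obj.map (EtCore.bcTopIso g.left).inv.op
        (eta g.left ((uResK K V.hom).obj G) (EtCoh.top V.left) (sectIso K V G z)) := rfl
  rw [h1, homEquivTop_toHomG, h2]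
  refine (map_res ((thmK g.left V.hom V₁.hom (Over.w g) K).app G) (EtCore.bcTopIso g.left).inv _).trans ?_
  refine (congrArg (((uResK K V₁.hom).obj G).obj.map (EtCore.bcTopIso g.left).inv.op)
    (thmK_eta g.left V.hom V₁.hom (Over.w g) K G (EtCoh.top V.left) (sectIso K V G z))).trans ?_
  have h3 := congrArg (fun k => G.obj.map k.op) (over_key g)
  simp only [op_comp, Functor.map_comp] at h3
  exact congrArg (fun k => k.hom z) h3

/-- **Naturality of the class of a cocycle.** -/
theorem cls_res (n : ℕ) (z : (dV K I V n).ker) :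
    cls K I V₁ h₁ n (resZ K I g n z) =
      EtCore.HpullVia g.left V.hom V₁.hom (Over.w g) F n (cls K I V h n z) := by
  rw [HpullVia_eq, cmp_apply, Ext.comp_assoc_of_third_deg_zero]
  have h2 := ExtMap.mapExactFunctor_extMk (EtCoh.pull g.left) (resV K I V h) (resV K I V₁ h₁)
    (phi K I g h₁ h) (th g.left V.hom V₁.hom (Over.w g) F) (phi_ι K I g h₁ h)
    (toHom K I V h n z) (n + 1) rfl (e_comp_d _ _ _ _ (toHom_dV K I V h) n z)
  refine Eq.trans ?_ (congrArg (fun k => (Ext.mk₀ (EtCore.pullConst g.left ℤ).inv).comp k (zero_add n)) h2).symm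
  refine Eq.trans ?_ (InjectiveResolution.mk₀_comp_extMk _ _ _ _ _ _).symm
  refine extMk_congr (resV K I V₁ h₁) (toHomG_res K g (I.cocomplex.X n) z).symm rfl
    (e_comp_d _ _ _ _ (toHom_dV K I V₁ h₁) n (resZ K I g n z)) ?_

end naturality

end K821.Dict
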