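import Groth.Agent.EtDual.K821.Pc
import Groth.Agent.EtDual.K152.Fib
import Groth.Agent.HTop.K343.Ab.Cart
import Groth.Agent.Sga1.EtaleSection
import Groth.Agent.Etrest.BigEtDescent

/-!
# Étale excision for presheaf complexes of injective sheaves

`u : U ⟶ V` an open immersion, `f : V' ⟶ V` étale, an isomorphism over the complement of `U` (in the form: over
`i : Z ⟶ V` such that `V = U ∪ i(Z)`), `U' = V' ×_V U`.  For a complex of injective sheaves `I` (for any topology
finer than the étale topology) the square of complexes `I(V) ⟶ I(U)`, `I(V') ⟶ I(U')` is homotopy cartesian.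
-/

set_option autoImplicit false
universe u v w u'
open CategoryTheory CategoryTheory.Limits AlgebraicGeometry Opposite ComplexShape

noncomputable section

namespace K821.Exc

open Groth.Agent.Etrest Groth.Agent.Etrest.BigEtSite
open K343.Basic HC Pc

attribute [local instance] isGrothendieckAbelian_AbK

theorem mem_et {T : Scheme.{u}} {R : Sieve T} :
    R ∈ Scheme.etaleTopology T ↔ ∀ x : T, ∃ (Y : Scheme.{u}) (g : Y ⟶ T), R g ∧ Etale g ∧ x ∈ Set.range g :=
  mem_grothendieckTopology_iff_forall (P := @Etale)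

section geom

variable {V V' U Z : Scheme.{u}} (f : V' ⟶ V) [Etale f] (u : U ⟶ V) [IsOpenImmersion u] (i : Z ⟶ V)
  (h : ∀ x : V, x ∈ Set.range u ∨ x ∈ Set.range i) [IsIso (pullback.snd f i)]

omit [Etale f] in
theorem exists_of_range (z : Z) : ∃ y : V', f y = i z := by
  let w : ↥(pullback f i) := inv (pullback.snd f i) z
  refine ⟨pullback.fst f i w, ?_⟩
  rw [← Scheme.Hom.comp_apply, pullback.condition, Scheme.Hom.comp_apply]
  congr 1
  exact congr($(IsIso.inv_hom_id (pullback.snd f i)) z)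

include h in
theorem mem_pair (R : Sieve V) (h1 : R u) (h2 : R f) : R ∈ Scheme.etaleTopology V := by
  rw [mem_et]
  intro x
  rcases h x with hx | ⟨z, rfl⟩
  · exact ⟨U, u, h1, inferInstance, hx⟩
  · obtain ⟨y, hy⟩ := exists_of_range f i z
    exact ⟨V', f, h2, inferInstance, ⟨y, hy⟩⟩

include h in
theorem mem_eq {T : Scheme.{u}} (g₁ g₂ : T ⟶ V') (hg : g₁ ≫ f = g₂ ≫ f) (R : Sieve T)
    (h1 : R (equalizer.ι g₁ g₂)) (h2 : R (pullback.fst (g₁ ≫ f) u)) : R ∈ Scheme.etaleTopology T := by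
  have := Groth.Agent.Sga1.EtaleSection.isOpenImmersion_equalizer f g₁ g₂ hg
  rw [mem_et]
  intro x
  rcases h ((g₁ ≫ f) x) with ⟨y, hy⟩ | ⟨z, hz⟩
  · obtain ⟨w, hw, -⟩ := Scheme.Pullback.exists_preimage_pullback x y hy.symm
    exact ⟨_, pullback.fst (g₁ ≫ f) u, h2, inferInstance, ⟨w, hw⟩⟩
  · obtain ⟨w, hw, -⟩ := Scheme.Pullback.exists_preimage_pullback (f := g₁ ≫ f) (g := i) x z hz.symm
    have e : pullback.fst (g₁ ≫ f) i ≫ g₁ = pullback.fst (g₁ ≫ f) i ≫ g₂ := by
      have c1 : (pullback.fst (g₁ ≫ f) i ≫ g₁) ≫ f = pullback.snd (g₁ ≫ f) i ≫ i := by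
        rw [Category.assoc, pullback.condition]
      have c2 : (pullback.fst (g₁ ≫ f) i ≫ g₂) ≫ f = pullback.snd (g₁ ≫ f) i ≫ i := by
        rw [Category.assoc, ← hg, pullback.condition]
      have c3 : pullback.lift _ _ c1 = pullback.lift _ _ c2 := by
        rw [← cancel_mono (pullback.snd f i), pullback.lift_snd, pullback.lift_snd]
      rw [← pullback.lift_fst _ _ c1, c3, pullback.lift_fst]
    refine ⟨_, equalizer.ι g₁ g₂, h1, inferInstance, ⟨equalizer.lift _ e w, ?_⟩⟩
    rw [← Scheme.Hom.comp_apply, equalizer.lift_ι, hw]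

end geom

variable {K : GrothendieckTopology Scheme.{u}} {X : Scheme.{u}}

/-- **Étale excision.** -/
theorem hc [Good K] (A : CochainComplex (AbK K X) ℤ) (hA : ∀ n, Injective (A.X n)) {V V' U U' : Over X} {Z : Scheme.{u}}
    (f : V' ⟶ V) (u : U ⟶ V) (u' : U' ⟶ V') (f' : U' ⟶ U) (i : Z ⟶ V.left)
    (hf : Etale f.left) (hu : IsOpenImmersion u.left) (hE : IsPullback u'.left f'.left f.left u.left)
    (h : ∀ x : V.left, x ∈ Set.range u.left ∨ x ∈ Set.range i) (hi : IsIso (pullback.snd f.left i)) :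
    IsHC (rs (K152.Fib.PC A) u) (rs (K152.Fib.PC A) u') (rs (K152.Fib.PC A) f) (rs (K152.Fib.PC A) f') := by
  have hcart : ∀ (n : ℤ) (t : (A.X n).obj.obj (op U)) (s' : (A.X n).obj.obj (op V')),
      (A.X n).obj.map f'.op t = (A.X n).obj.map u'.op s' →
      ∃! s : (A.X n).obj.obj (op V), (A.X n).obj.map u.op s = t ∧ (A.X n).obj.map f.op s = s' := by
    intro n t s' hts
    exact K343.Ab.cartesian K ((A.X n).obj ⋙ forget _)
      ((isSheaf_iff_isSheaf_of_type _ _).1
        (Presheaf.isSheaf_comp_of_isSheaf (K.over X) (A.X n).obj (forget AddCommGrpCat.{u + 1}) (A.X n).property))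
      u' f' f u hE (fun R h1 h2 => Good.le _ (mem_pair f.left u.left i h R h1 h2))
      (fun g₁ g₂ hg R h1 h2 => Good.le _ (mem_eq f.left u.left i h g₁ g₂ hg R h1 h2)) t s' hts
  have hw : u' ≫ f = f' ≫ u := by
    ext1
    exact hE.w
  refine hc_of_exact ?_ ?_ ?_
  · intro n x h1 h2
    obtain ⟨s, -, hs⟩ := hcart n 0 0 (by rw [map_zero, map_zero])
    exact (hs x ⟨h1, h2⟩).trans (hs 0 ⟨map_zero _, map_zero _⟩).symm
  · intro n y x' h1
    obtain ⟨s, hs, -⟩ := hcart n y x' h1
    exact ⟨s, hs⟩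
  · intro n y'
    have : Mono u' := by
      have : Mono u'.left := by
        have := hE.isoPullback
        have h2 : u'.left = hE.isoPullback.hom ≫ pullback.fst _ _ := by simp
        rw [h2]
        infer_instance
      exact Over.mono_of_mono_left _
    obtain ⟨x', hx'⟩ := K152.Fib.surjective_map_of_injective (A.X n).obj
      (K224.BigEx.injective_obj (A.X n) (hA n)) u' y'
    let x'' : (ev (K152.Fib.PC A) V').X n := x'
    refine ⟨0, -x'', ?_⟩
    have e1 : (rs (K152.Fib.PC A) u').f n (-x'') = - (rs (K152.Fib.PC A) u').f n x'' := map_neg _ _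
    have e2 : (rs (K152.Fib.PC A) f').f n 0 = 0 := map_zero _
    rw [e1, e2, sub_neg_eq_add, zero_add]
    exact hx'

end K821.Exc
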