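import Groth.Agent.Htor.H253.AbQuasi
import Mathlib.Algebra.Homology.HomotopyCategory.MappingCone
import Mathlib.Algebra.Homology.HomotopyCategory.Pretriangulated

/-!
# Homotopy cartesian squares of complexes of abelian groups, elementwise

For a commutative square
```
K₁ --φ₁--> L₁
|a         |b
K₂ --φ₂--> L₂
```
of complexes of abelian groups `IsHC φ₁ φ₂ a b` says that the total complex is exact, elementwise.

* `hc_iff_quasiIso_map`: it is equivalent to `cone φ₁ ⟶ cone φ₂` being a quasi-isomorphism;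
* `IsHC.symm` (transposition), `IsHC.vcomp`, `IsHC.of_vcomp_left`, `IsHC.of_vcomp_right`, `IsHC.hcomp` ...;
* `hc_of_quasiIso`, `IsHC.quasiIso_iff`;
* `hc_of_exact`: squares which are cartesian and cocartesian in each degree.
-/

set_option autoImplicit false

universe w

open CategoryTheory CategoryTheory.Limits ComplexShape CochainComplex HomComplex

namespace K821.HC

open Groth.Agent.Htor.H253.AbQuasi

section cone

variable {K L : CochainComplex AddCommGrpCat.{w} ℤ} (φ : K ⟶ L)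

/-- First component of an element of a mapping cone. -/
noncomputable def cfst {n m : ℤ} (h : n + 1 = m) : (mappingCone φ).X n →+ K.X m :=
  ((mappingCone.fst φ).1.v n m h).hom

/-- Second component of an element of a mapping cone. -/
noncomputable def csnd (n : ℤ) : (mappingCone φ).X n →+ L.X n :=
  ((mappingCone.snd φ).v n n (add_zero n)).hom

/-- First inclusion in a mapping cone. -/
noncomputable def cinl {n m : ℤ} (h : n + 1 = m) : K.X m →+ (mappingCone φ).X n :=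
  ((mappingCone.inl φ).v m n (by lia)).hom

/-- Second inclusion in a mapping cone. -/
noncomputable def cinr (n : ℤ) : L.X n →+ (mappingCone φ).X n :=
  ((mappingCone.inr φ).f n).hom

variable {φ}

@[simp] lemma cfst_cinl {n m : ℤ} (h : n + 1 = m) (x : K.X m) : cfst φ h (cinl φ h x) = x :=
  congr($(mappingCone.inl_v_fst_v φ m n h).hom x)

@[simp] lemma csnd_cinl {n m : ℤ} (h : n + 1 = m) (x : K.X m) : csnd φ n (cinl φ h x) = 0 :=
  congr($(mappingCone.inl_v_snd_v φ m n (by lia)).hom x)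

@[simp] lemma cfst_cinr {n m : ℤ} (h : n + 1 = m) (x : L.X n) : cfst φ h (cinr φ n x) = 0 :=
  congr($(mappingCone.inr_f_fst_v φ n m h).hom x)

@[simp] lemma csnd_cinr {n : ℤ} (x : L.X n) : csnd φ n (cinr φ n x) = x :=
  congr($(mappingCone.inr_f_snd_v φ n).hom x)

@[simp] lemma cfst_pair {n m : ℤ} (h : n + 1 = m) (x : K.X m) (y : L.X n) :
    cfst φ h (cinl φ h x + cinr φ n y) = x := by
  rw [map_add, cfst_cinl, cfst_cinr, add_zero]

@[simp] lemma csnd_pair {n m : ℤ} (h : n + 1 = m) (x : K.X m) (y : L.X n) :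
    csnd φ n (cinl φ h x + cinr φ n y) = y := by
  rw [map_add, csnd_cinl, csnd_cinr, zero_add]

lemma cinl_cfst_add {n m : ℤ} (h : n + 1 = m) (c : (mappingCone φ).X n) :
    cinl φ h (cfst φ h c) + cinr φ n (csnd φ n c) = c :=
  congr($(mappingCone.id_X φ n m h).hom c)

lemma cone_ext {n m : ℤ} (h : n + 1 = m) {c c' : (mappingCone φ).X n}
    (h1 : cfst φ h c = cfst φ h c') (h2 : csnd φ n c = csnd φ n c') : c = c' := by
  rw [← cinl_cfst_add h c, ← cinl_cfst_add h c', h1, h2]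

lemma cfst_d {n m k : ℤ} (h : n + 1 = m) (h' : m + 1 = k) (c : (mappingCone φ).X n) :
    cfst φ h' ((mappingCone φ).d n m c) = - K.d m k (cfst φ h c) :=
  congr($(mappingCone.d_fst_v φ n m k h h').hom c)

lemma csnd_d {n m : ℤ} (h : n + 1 = m) (c : (mappingCone φ).X n) :
    csnd φ m ((mappingCone φ).d n m c) = φ.f m (cfst φ h c) + L.d n m (csnd φ n c) :=
  congr($(mappingCone.d_snd_v φ n m h).hom c)

section Map

variable {K₁ L₁ K₂ L₂ : CochainComplex AddCommGrpCat.{w} ℤ} {φ₁ : K₁ ⟶ L₁} {φ₂ : K₂ ⟶ L₂}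
    (a : K₁ ⟶ K₂) (b : L₁ ⟶ L₂) (comm : φ₁ ≫ b = a ≫ φ₂)

lemma cfst_map {n m : ℤ} (h : n + 1 = m) (c : (mappingCone φ₁).X n) :
    cfst φ₂ h ((mappingCone.map φ₁ φ₂ a b comm).f n c) = a.f m (cfst φ₁ h c) := by
  have : (mappingCone.map φ₁ φ₂ a b comm).f n ≫ (mappingCone.fst φ₂).1.v n m h =
      (mappingCone.fst φ₁).1.v n m h ≫ a.f m := by
    simp [mappingCone.ext_from_iff _ m n h, mappingCone.map]
  exact congr($(this).hom c)

lemma csnd_map {n : ℤ} (c : (mappingCone φ₁).X n) :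
    csnd φ₂ n ((mappingCone.map φ₁ φ₂ a b comm).f n c) = b.f n (csnd φ₁ n c) := by
  have : (mappingCone.map φ₁ φ₂ a b comm).f n ≫ (mappingCone.snd φ₂).v n n (add_zero n) =
      (mappingCone.snd φ₁).v n n (add_zero n) ≫ b.f n := by
    simp [mappingCone.ext_from_iff _ (n + 1) n rfl, mappingCone.map]
  exact congr($(this).hom c)

end Map

end cone

section square

variable {K₁ L₁ K₂ L₂ K₃ L₃ : CochainComplex AddCommGrpCat.{w} ℤ}

/-- The square `φ₁ ≫ b = a ≫ φ₂` is homotopy cartesian (elementwise exactness of the total complex). -/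
def IsHC (φ₁ : K₁ ⟶ L₁) (φ₂ : K₂ ⟶ L₂) (a : K₁ ⟶ K₂) (b : L₁ ⟶ L₂) : Prop :=
  ∀ (p q r s t : ℤ) (_ : p + 1 = q) (_ : q + 1 = r) (_ : r + 1 = s) (_ : s + 1 = t)
    (x : K₁.X s) (y : L₁.X r) (x' : K₂.X r) (y' : L₂.X q)
    (_ : K₁.d s t x = 0) (_ : φ₁.f s x = L₁.d r s y) (_ : a.f s x = K₂.d r s x')
    (_ : b.f r y - φ₂.f r x' = L₂.d q r y'),
    ∃ (x₀ : K₁.X r) (y₀ : L₁.X q) (x₀' : K₂.X q) (y₀' : L₂.X p),
      K₁.d r s x₀ = x ∧ φ₁.f r x₀ = y + L₁.d q r y₀ ∧ a.f r x₀ = x' + K₂.d q r x₀' ∧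
        φ₂.f q x₀' - b.f q y₀ = y' + L₂.d p q y₀'

variable {φ₁ : K₁ ⟶ L₁} {φ₂ : K₂ ⟶ L₂} {φ₃ : K₃ ⟶ L₃} {a : K₁ ⟶ K₂} {b : L₁ ⟶ L₂}

/-- Transposition. -/
theorem IsHC.symm (h : IsHC φ₁ φ₂ a b) : IsHC a b φ₁ φ₂ := by
  intro p q r s t hp hq hr hs x x' y y' hx hax hφx hy'
  obtain ⟨x₀, y₀, x₀', y₀', h1, h2, h3, h4⟩ := h p q r s t hp hq hr hs x y x' (-y') hx hφx hax
    (by rw [map_neg, ← hy', neg_sub])
  exact ⟨x₀, x₀', y₀, -y₀', h1, h3, h2, by rw [map_neg, ← neg_sub, h4]; abel⟩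

theorem hc_symm_iff : IsHC φ₁ φ₂ a b ↔ IsHC a b φ₁ φ₂ := ⟨IsHC.symm, IsHC.symm⟩

theorem hc_iff_quasiIso_map (comm : φ₁ ≫ b = a ≫ φ₂) :
    IsHC φ₁ φ₂ a b ↔ QuasiIso (mappingCone.map φ₁ φ₂ a b comm) := by
  rw [← isConeElt_iff_quasiIso]
  constructor
  · intro h p q r s hpq hqr hrs u v hu huv
    have e1 := cfst_d (φ := φ₁) hrs rfl u
    have e2 := csnd_d (φ := φ₁) hrs u
    rw [hu, map_zero, eq_comm, neg_eq_zero] at e1
    rw [hu, map_zero] at e2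
    have e3 := cfst_map a b comm hrs u
    have e4 := csnd_map a b comm u
    rw [huv, cfst_d hqr hrs] at e3
    rw [huv, csnd_d hqr] at e4
    obtain ⟨x₀, y₀, x₀', y₀', h1, h2, h3, h4⟩ := h p q r s (s + 1) hpq hqr hrs rfl (cfst φ₁ hrs u)
      (-csnd φ₁ r u) (-cfst φ₂ hqr v) (-csnd φ₂ q v) e1
      (by rw [map_neg]; exact eq_neg_of_add_eq_zero_left e2.symm)
      (by rw [map_neg]; exact e3.symm)
      (by rw [map_neg, map_neg, ← e4, map_neg]; abel)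
    refine ⟨cinl φ₁ hqr (-x₀) + cinr φ₁ q y₀, cinl φ₂ hpq x₀' + cinr φ₂ p (-y₀'), ?_, ?_⟩
    · refine cone_ext hrs ?_ ?_
      · rw [cfst_d hqr hrs, cfst_pair, map_neg, neg_neg, h1]
      · rw [csnd_d hqr, cfst_pair, csnd_pair, map_neg, h2]
        abel
    · refine cone_ext hqr ?_ ?_
      · rw [cfst_map, cfst_pair, map_add, cfst_d hpq hqr, cfst_pair, map_neg, h3]
        abel
      · rw [csnd_map, csnd_pair, map_add, csnd_d hpq, cfst_pair, csnd_pair, map_neg]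
        have h5 : φ₂.f q x₀' = b.f q y₀ + (-csnd φ₂ q v + L₂.d p q y₀') := by
          rw [← h4]
          abel
        rw [h5]
        abel
  · intro h p q r s t hp hq hr hs x y x' y' hx hax hφx hy'
    have f1 : (mappingCone φ₁).d r s (cinl φ₁ hr x + cinr φ₁ r (-y)) = 0 := by
      refine cone_ext hs ?_ ?_
      · rw [cfst_d hr hs, cfst_pair, map_zero, hx, neg_zero]
      · rw [csnd_d hr, cfst_pair, csnd_pair, map_neg, hax, map_zero, add_neg_cancel]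
    have f2 : (mappingCone.map φ₁ φ₂ a b comm).f r (cinl φ₁ hr x + cinr φ₁ r (-y)) =
        (mappingCone φ₂).d q r (cinl φ₂ hq (-x') + cinr φ₂ q (-y')) := by
      refine cone_ext hr ?_ ?_
      · rw [cfst_map, cfst_pair, cfst_d hq hr, cfst_pair, map_neg, neg_neg, hφx]
      · rw [csnd_map, csnd_pair, csnd_d hq, cfst_pair, csnd_pair, map_neg, map_neg, map_neg, ← hy']
        abel
    obtain ⟨c, z, h1, h2⟩ := h p q r s hp hq hr _ _ f1 f2
    have e1 := congrArg (cfst φ₁ hr) h1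
    have e2 := congrArg (csnd φ₁ r) h1
    rw [cfst_d hq hr, cfst_pair] at e1
    rw [csnd_d hq, csnd_pair] at e2
    have e3 := congrArg (cfst φ₂ hq) h2
    have e4 := congrArg (csnd φ₂ q) h2
    rw [cfst_map, map_add, cfst_pair, cfst_d hp hq] at e3
    rw [csnd_map, map_add, csnd_pair, csnd_d hp] at e4
    refine ⟨-cfst φ₁ hq c, csnd φ₁ q c, cfst φ₂ hp z, -csnd φ₂ p z, ?_, ?_, ?_, ?_⟩
    · rw [map_neg, e1]
    · have : y = -(φ₁.f r (cfst φ₁ hq c) + L₁.d q r (csnd φ₁ q c)) := by rw [e2, neg_neg]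
      rw [map_neg, this]
      abel
    · rw [map_neg, e3]
      abel
    · rw [e4, map_neg]
      abel

variable {a' : K₂ ⟶ K₃} {b' : L₂ ⟶ L₃}

/-- Vertical composition. -/
theorem IsHC.vcomp (h₁ : IsHC φ₁ φ₂ a b) (h₂ : IsHC φ₂ φ₃ a' b') (c₁ : φ₁ ≫ b = a ≫ φ₂) (c₂ : φ₂ ≫ b' = a' ≫ φ₃) :
    IsHC φ₁ φ₃ (a ≫ a') (b ≫ b') := by
  rw [hc_iff_quasiIso_map c₁] at h₁
  rw [hc_iff_quasiIso_map c₂] at h₂
  rw [hc_iff_quasiIso_map (by rw [reassoc_of% c₁, c₂, Category.assoc]), mappingCone.map_comp (comm := c₁) (comm' := c₂)]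
  infer_instance

/-- Vertical composition, two out of three. -/
theorem IsHC.of_vcomp_left (h₁ : IsHC φ₁ φ₂ a b) (h : IsHC φ₁ φ₃ (a ≫ a') (b ≫ b')) (c₁ : φ₁ ≫ b = a ≫ φ₂)
    (c₂ : φ₂ ≫ b' = a' ≫ φ₃) : IsHC φ₂ φ₃ a' b' := by
  rw [hc_iff_quasiIso_map c₁] at h₁
  rw [hc_iff_quasiIso_map (by rw [reassoc_of% c₁, c₂, Category.assoc]), mappingCone.map_comp (comm := c₁) (comm' := c₂)] at h
  rw [hc_iff_quasiIso_map c₂]
  exact quasiIso_of_comp_left (mappingCone.map φ₁ φ₂ a b c₁) _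

/-- Vertical composition, two out of three. -/
theorem IsHC.of_vcomp_right (h₂ : IsHC φ₂ φ₃ a' b') (h : IsHC φ₁ φ₃ (a ≫ a') (b ≫ b')) (c₁ : φ₁ ≫ b = a ≫ φ₂)
    (c₂ : φ₂ ≫ b' = a' ≫ φ₃) : IsHC φ₁ φ₂ a b := by
  rw [hc_iff_quasiIso_map c₂] at h₂
  rw [hc_iff_quasiIso_map (by rw [reassoc_of% c₁, c₂, Category.assoc]), mappingCone.map_comp (comm := c₁) (comm' := c₂)] at h
  rw [hc_iff_quasiIso_map c₁]
  exact quasiIso_of_comp_right _ (mappingCone.map φ₂ φ₃ a' b' c₂)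

/-- Vertical morphisms which are quasi-isomorphisms. -/
theorem hc_of_quasiIso (comm : φ₁ ≫ b = a ≫ φ₂) (ha : QuasiIso a) (hb : QuasiIso b) : IsHC φ₁ φ₂ a b := by
  intro p q r s t hp hq hr hs x y x' y' hx hφx hax hy'
  obtain ⟨x₀, x₁, h1, h2⟩ := isConeElt_of_quasiIso (f := a) q r s t hq hr hs x x' hx hax
  have hc : ∀ (n : ℤ) (z : K₁.X n), b.f n (φ₁.f n z) = φ₂.f n (a.f n z) := fun n z => congr(($comm).f n z)
  have h3 : L₁.d r s (y - φ₁.f r x₀) = 0 := by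
    rw [map_sub, f_d, h1, hφx, sub_self]
  have h4 : b.f r (y - φ₁.f r x₀) = L₂.d q r (y' - φ₂.f q x₁) := by
    rw [map_sub, map_sub, hc, h2, ← hy', map_add, f_d φ₂]
    abel
  obtain ⟨y₀, y₁, h5, h6⟩ := isConeElt_of_quasiIso (f := b) p q r s hp hq hr _ _ h3 h4
  refine ⟨x₀, -y₀, x₁, y₁, h1, ?_, h2, ?_⟩
  · rw [map_neg, h5]
    abel
  · rw [map_neg, h6]
    abel

/-- In a homotopy cartesian square, `a` is a quasi-isomorphism if `b` is one. -/
theorem IsHC.quasiIso_left (h : IsHC φ₁ φ₂ a b) (comm : φ₁ ≫ b = a ≫ φ₂) (hb : QuasiIso b) : QuasiIso a := by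
  refine quasiIso_of_isConeElt ?_
  intro q r s t hq hr hs x x' hx hax
  have hc : ∀ (n : ℤ) (z : K₁.X n), b.f n (φ₁.f n z) = φ₂.f n (a.f n z) := fun n z => congr(($comm).f n z)
  obtain ⟨y, y', h1, h2⟩ := isConeElt_of_quasiIso (f := b) q r s t hq hr hs (φ₁.f s x) (φ₂.f r x')
    (by rw [f_d, hx, map_zero]) (by rw [hc, hax, f_d])
  obtain ⟨x₀, y₀, x₀', y₀', e1, e2, e3, e4⟩ := h (q - 1) q r s t (by lia) hq hr hs x y x' y' hx h1.symm hax
    (by rw [h2]; abel)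
  exact ⟨x₀, x₀', e1, e3⟩

/-- In a homotopy cartesian square, `b` is a quasi-isomorphism if `a` is one. -/
theorem IsHC.quasiIso_right (h : IsHC φ₁ φ₂ a b) (comm : φ₁ ≫ b = a ≫ φ₂) (ha : QuasiIso a) : QuasiIso b := by
  refine quasiIso_of_isConeElt ?_
  intro p q r s hp hq hr y y' hy hby
  have hc : ∀ (n : ℤ) (z : K₁.X n), b.f n (φ₁.f n z) = φ₂.f n (a.f n z) := fun n z => congr(($comm).f n z)
  obtain ⟨x₀, y₀, x₀', y₀', e1, e2, e3, e4⟩ := h p q r s (s + 1) hp hq hr rfl 0 y 0 y' (map_zero _)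
    (by rw [map_zero, hy]) (by rw [map_zero, map_zero]) (by rw [map_zero, sub_zero, hby])
  rw [zero_add] at e3
  obtain ⟨x₁, x₁', h1, h2⟩ := isConeElt_of_quasiIso (f := a) p q r s hp hq hr x₀ x₀' e1 e3
  refine ⟨φ₁.f q x₁ - y₀, φ₂.f p x₁' + y₀', ?_, ?_⟩
  · rw [map_sub, f_d, h1, e2]
    abel
  · have h3 : y' = φ₂.f q x₀' - b.f q y₀ - L₂.d p q y₀' := by
      rw [e4]
      abel
    rw [map_sub, hc, h2, map_add, map_add, f_d φ₂, h3]
    abel

/-- Squares which are cartesian and cocartesian in each degree. -/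
theorem hc_of_exact
    (hinj : ∀ n (x : K₁.X n), φ₁.f n x = 0 → a.f n x = 0 → x = 0)
    (hex : ∀ n (y : L₁.X n) (x' : K₂.X n), b.f n y = φ₂.f n x' → ∃ x : K₁.X n, φ₁.f n x = y ∧ a.f n x = x')
    (hsurj : ∀ n (y' : L₂.X n), ∃ (y : L₁.X n) (x' : K₂.X n), b.f n y - φ₂.f n x' = y') :
    IsHC φ₁ φ₂ a b := by
  intro p q r s t hp hq hr hs x y x' y' hx hφx hax hy'
  obtain ⟨y₀, x₀', h1⟩ := hsurj q y'
  obtain ⟨x₀, h2, h3⟩ := hex r (y - L₁.d q r y₀) (x' - K₂.d q r x₀') (by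
    rw [map_sub, map_sub, ← f_d, ← f_d, sub_eq_sub_iff_sub_eq_sub, hy', ← h1, map_sub])
  refine ⟨x₀, -y₀, -x₀', 0, ?_, ?_, ?_, ?_⟩
  · rw [← sub_eq_zero]
    refine hinj s _ ?_ ?_
    · rw [map_sub, ← f_d, h2, map_sub, d_d, sub_zero, hφx, sub_self]
    · rw [map_sub, ← f_d, h3, map_sub, d_d, sub_zero, hax, sub_self]
  · rw [h2, map_neg]
    abel
  · rw [h3, map_neg]
    abel
  · rw [map_neg, map_neg, map_zero, ← h1]
    abel

end square

section colim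

variable {J : Type*} [Category* J] {K L : J ⥤ CochainComplex AddCommGrpCat.{w} ℤ} {K' L' : CochainComplex AddCommGrpCat.{w} ℤ}

/-- Every class of `K'` comes from some stage. -/
def ColSurj (K : J ⥤ CochainComplex AddCommGrpCat.{w} ℤ) (α : ∀ j, K.obj j ⟶ K') : Prop :=
  ∀ (j : J) (l n m : ℤ) (_ : l + 1 = n) (_ : n + 1 = m) (z : K'.X n) (_ : K'.d n m z = 0),
    ∃ (k : J) (_ : j ⟶ k) (zk : (K.obj k).X n) (w : K'.X l), (K.obj k).d n m zk = 0 ∧
      (α k).f n zk = z + K'.d l n w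

/-- Every class at a finite stage which vanishes in `K'` vanishes at some stage. -/
def ColInj (K : J ⥤ CochainComplex AddCommGrpCat.{w} ℤ) (α : ∀ j, K.obj j ⟶ K') : Prop :=
  ∀ (j : J) (l n m : ℤ) (_ : l + 1 = n) (_ : n + 1 = m) (z : (K.obj j).X n) (w : K'.X l)
    (_ : (K.obj j).d n m z = 0) (_ : (α j).f n z = K'.d l n w),
    ∃ (k : J) (f : j ⟶ k) (v : (K.obj k).X l), (K.map f).f n z = (K.obj k).d l n v

lemma f_eq {K L : CochainComplex AddCommGrpCat.{w} ℤ} {φ ψ : K ⟶ L} (h : φ = ψ) (n : ℤ) (z : K.X n) :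
    φ.f n z = ψ.f n z := by rw [h]

lemma map_map_f {j k l : J} (f : j ⟶ k) (g : k ⟶ l) (n : ℤ) (z : (K.obj j).X n) :
    (K.map g).f n ((K.map f).f n z) = (K.map (f ≫ g)).f n z := by
  have : (K.map (f ≫ g)).f n = (K.map f).f n ≫ (K.map g).f n := by rw [K.map_comp]; rfl
  exact congr($(this) z).symm

/-- **Homotopy cartesian squares and filtered colimits (in cohomology).** -/
theorem hc_of_colim (φ : K ⟶ L) (φ' : K' ⟶ L') (α : ∀ j, K.obj j ⟶ K') (β : ∀ j, L.obj j ⟶ L')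
    (hα : ∀ ⦃j k⦄ (f : j ⟶ k), K.map f ≫ α k = α j) (hβ : ∀ ⦃j k⦄ (f : j ⟶ k), L.map f ≫ β k = β j)
    (hφ : ∀ j, φ.app j ≫ β j = α j ≫ φ') (sK : ColSurj K α) (iK : ColInj K α) (sL : ColSurj L β)
    (iL : ColInj L β) (j : J) (h : ∀ ⦃k⦄ (f : j ⟶ k), IsHC (φ.app j) (φ.app k) (K.map f) (L.map f)) :
    IsHC (φ.app j) φ' (α j) (β j) := by
  have eα : ∀ {j k : J} (f : j ⟶ k) (n : ℤ) (z : (K.obj j).X n), (α k).f n ((K.map f).f n z) = (α j).f n z :=
    fun f n z => f_eq (hα f) n z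
  have eβ : ∀ {j k : J} (f : j ⟶ k) (n : ℤ) (z : (L.obj j).X n), (β k).f n ((L.map f).f n z) = (β j).f n z :=
    fun f n z => f_eq (hβ f) n z
  have eφ : ∀ (j : J) (n : ℤ) (z : (K.obj j).X n), (β j).f n ((φ.app j).f n z) = φ'.f n ((α j).f n z) :=
    fun j n z => f_eq (hφ j) n z
  have nφ : ∀ {j k : J} (f : j ⟶ k) (n : ℤ) (z : (K.obj j).X n),
      (L.map f).f n ((φ.app j).f n z) = (φ.app k).f n ((K.map f).f n z) :=
    fun f n z => (f_eq (φ.naturality f) n z).symm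
  intro p q r s t hp hq hr hs x y x' y' hx hφx hax hy'
  obtain ⟨k, f, xk, h1⟩ := iK j r s t hr hs x x' hx hax
  obtain ⟨l, g, z, w, h2, h3⟩ := sK k q r s hq hr (x' - (α k).f r xk) (by
    rw [map_sub, ← hax, f_d, ← h1, eα, sub_self])
  let x'l : (K.obj l).X r := (K.map g).f r xk + z
  have h4 : (K.obj l).d r s x'l = (K.map (f ≫ g)).f s x := by
    rw [map_add, h2, add_zero, f_d, ← h1, map_map_f]
  have h5 : (α l).f r x'l = x' + K'.d q r w := by
    rw [map_add, eα, h3]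
    abel
  let yl : (L.obj l).X r := (L.map (f ≫ g)).f r y - (φ.app l).f r x'l
  have h6 : (L.obj l).d r s yl = 0 := by
    rw [map_sub, f_d, f_d, h4, ← nφ, ← hφx, sub_self]
  have h7 : (β l).f r yl = L'.d q r (y' - φ'.f q w) := by
    rw [map_sub, eβ, eφ, h5, map_add, map_sub, ← hy', f_d]
    abel
  obtain ⟨m, h, y'm, h8⟩ := iL l q r s hq hr yl _ h6 h7
  obtain ⟨o, i, u, v, h9, h10⟩ := sL m p q r hp hq (y' - φ'.f q w - (β m).f q y'm) (by
    rw [map_sub, ← h7, f_d, ← h8, eβ, sub_self])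
  let y'o : (L.obj o).X q := (L.map i).f q y'm + u
  let x'o : (K.obj o).X r := (K.map (h ≫ i)).f r x'l
  have h11 : (β o).f q y'o = y' - φ'.f q w + L'.d p q v := by
    rw [map_add, eβ, h10]
    abel
  have h12 : (L.obj o).d q r y'o = (L.map (h ≫ i)).f r yl := by
    rw [map_add, h9, add_zero, f_d, ← h8, map_map_f]
  obtain ⟨x₀, y₀, x₀', y₀', e1, e2, e3, e4⟩ := ‹∀ ⦃k⦄ (f : j ⟶ k), IsHC (φ.app j) (φ.app k) (K.map f) (L.map f)›
    ((f ≫ g) ≫ (h ≫ i)) p q r s t hp hq hr hs x y x'o y'o hx hφx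
    (by rw [f_d, h4, map_map_f]) (by rw [h12, map_sub, nφ, map_map_f])
  refine ⟨x₀, y₀, w + (α o).f q x₀', v + (β o).f p y₀', e1, e2, ?_, ?_⟩
  · rw [← eα ((f ≫ g) ≫ (h ≫ i)), e3, map_add, eα, h5, map_add, f_d]
    abel
  · have h13 : (β j).f q y₀ = (β o).f q ((φ.app o).f q x₀' - y'o - (L.obj o).d p q y₀') := by
      rw [← eβ ((f ≫ g) ≫ (h ≫ i))]
      congr 1
      rw [sub_sub, ← e4]
      abel
    rw [h13, map_add, map_sub, map_sub, eφ, h11, map_add, f_d]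
    abel

end colim

end K821.HC
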