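import Groth.Agent.EtDual.K821.Nbh
import Groth.Agent.EtCoh.K23.HensStep
import Groth.Agent.Etcore.HpullViaEq

/-!
# Henselian pairs with the same completion: preparations

* `quasiIso_ker`: kernels in homotopy cartesian squares with surjective rows;
* `qiso_of_comp`, `qiso_comp`, `qiso_hens`;
* `quasiIso_hens`, `quasiIso_hens_E`: henselian pairs with the same completion and presheaf complexes.
-/

set_option autoImplicit false
universe u v w u'
open CategoryTheory CategoryTheory.Limits AlgebraicGeometry Opposite ComplexShape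

noncomputable section

namespace K821.HensQ

open Groth.Agent.Etcore K821.Lim K821.Nbh Groth.Agent.Etrest.StrictLoc Groth.Agent.Ega2.LACRB
open K343.Basic Dict Pc HC K152.Fib Groth.Agent.Htor.H253.AbQuasi K23.LocAlg

attribute [local instance] isGrothendieckAbelian_AbK

section ker

variable {N₁ K₁ L₁ N₂ K₂ L₂ : CochainComplex AddCommGrpCat.{w} ℤ}

/-- In a homotopy cartesian square with surjective horizontal morphisms the kernels are quasi-isomorphic. -/
theorem quasiIso_ker {φ₁ : K₁ ⟶ L₁} {φ₂ : K₂ ⟶ L₂} {a : K₁ ⟶ K₂} {b : L₁ ⟶ L₂} (h : IsHC φ₁ φ₂ a b)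
    (comm : φ₁ ≫ b = a ≫ φ₂) (i₁ : N₁ ⟶ K₁) (i₂ : N₂ ⟶ K₂) (n : N₁ ⟶ N₂) (hn : n ≫ i₂ = i₁ ≫ a)
    (s₁ : ∀ m, Function.Surjective (φ₁.f m)) (s₂ : ∀ m, Function.Surjective (φ₂.f m))
    (j₁ : ∀ m, Function.Injective (i₁.f m)) (j₂ : ∀ m, Function.Injective (i₂.f m))
    (e₁ : ∀ m x, φ₁.f m x = 0 ↔ ∃ y, i₁.f m y = x) (e₂ : ∀ m x, φ₂.f m x = 0 ↔ ∃ y, i₂.f m y = x) :
    QuasiIso n := by
  have hc : ∀ (m : ℤ) (x : K₁.X m), b.f m (φ₁.f m x) = φ₂.f m (a.f m x) := fun m x => f_eq comm m x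
  have hn' : ∀ (m : ℤ) (x : N₁.X m), i₂.f m (n.f m x) = a.f m (i₁.f m x) := fun m x => f_eq hn m x
  refine quasiIso_of_isConeElt ?_
  intro q r s t hq hr hs x x' hx hnx
  have z₁ : φ₁.f s (i₁.f s x) = 0 := (e₁ s _).2 ⟨x, rfl⟩
  have z₂ : φ₂.f r (i₂.f r x') = 0 := (e₂ r _).2 ⟨x', rfl⟩
  obtain ⟨x₀, y₀, x₀', y₀', h1, h2, h3, h4⟩ := h (q - 1) q r s t (by lia) hq hr hs (i₁.f s x) 0 (i₂.f r x') 0
    (by rw [f_d, hx, map_zero]) (by rw [z₁, map_zero]) (by rw [← hn', hnx, f_d])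
    (by rw [z₂, map_zero, map_zero, sub_zero])
  rw [zero_add] at h2 h4
  obtain ⟨y, rfl⟩ := s₁ q y₀
  obtain ⟨y', rfl⟩ := s₂ (q - 1) y₀'
  obtain ⟨u, hu⟩ := (e₁ r (x₀ - K₁.d q r y)).1 (by rw [map_sub, h2, f_d, sub_self])
  obtain ⟨v, hv⟩ := (e₂ q (x₀' - a.f q y - K₂.d (q - 1) q y')).1 (by
    rw [map_sub, map_sub, ← hc, h4, f_d, sub_self])
  refine ⟨u, v, ?_, ?_⟩
  · apply j₁ s
    rw [← f_d, hu, map_sub, d_d, sub_zero, h1]
  · apply j₂ r
    rw [hn', hu, map_sub, h3, map_add, ← f_d i₂, hv, map_sub, map_sub, d_d, sub_zero, f_d]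
    abel

end ker

section ring

theorem qiso_of_comp {A B C : Type u} [CommRing A] [CommRing B] [CommRing C] (i : A →+* B) (j : B →+* C) (k : A →+* C)
    (hk : j.comp i = k) {t : A} (hi : QIso i t) (hji : QIso k t) : QIso j (i t) := by
  subst hk
  refine ⟨fun n b hb => ?_, fun n y => ?_⟩
  · obtain ⟨a, ha⟩ := hi.surj n b
    have h1 : j (i a) ∈ Ideal.span {j (i t) ^ n} := by
      have h2 : j (i a - b) ∈ Ideal.span {j (i t) ^ n} := by
        rw [Ideal.mem_span_singleton] at ha ⊢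
        obtain ⟨c, hc⟩ := ha
        exact ⟨j c, by rw [hc, map_mul, map_pow]⟩
      have h3 := Ideal.add_mem _ h2 hb
      rwa [map_sub, sub_add_cancel] at h3
    have h4 := hji.inj n a h1
    have h5 : i a ∈ Ideal.span {i t ^ n} := by
      rw [Ideal.mem_span_singleton] at h4 ⊢
      obtain ⟨c, hc⟩ := h4
      exact ⟨i c, by rw [hc, map_mul, map_pow]⟩
    have h6 := Ideal.sub_mem _ h5 ha
    rwa [sub_sub_cancel] at h6
  · obtain ⟨a, ha⟩ := hji.surj n y
    exact ⟨i a, ha⟩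

theorem qiso_comp {A B C : Type u} [CommRing A] [CommRing B] [CommRing C] (i : A →+* B) (j : B →+* C) (k : A →+* C)
    (hk : j.comp i = k) {t : A} (hi : QIso i t) (hj : QIso j (i t)) : QIso k t := by
  subst hk
  refine ⟨fun n a ha => hi.inj n a (hj.inj n _ ha), fun n y => ?_⟩
  obtain ⟨b, hb⟩ := hj.surj n y
  obtain ⟨a, ha⟩ := hi.surj n b
  refine ⟨a, ?_⟩
  have h2 : j (i a - b) ∈ Ideal.span {j (i t) ^ n} := by
    rw [Ideal.mem_span_singleton] at ha ⊢
    obtain ⟨c, hc⟩ := ha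
    exact ⟨j c, by rw [hc, map_mul, map_pow]⟩
  have h3 := Ideal.add_mem _ h2 hb
  rwa [map_sub, sub_add_sub_cancel] at h3

theorem span_map {A B : Type u} [CommRing A] [CommRing B] (f : A →+* B) (t : A) :
    (Ideal.span {t}).map f = Ideal.span {f t} := by
  rw [Ideal.map_span, Set.image_singleton]

/-- The henselization has the same completion. -/
theorem qiso_hens {A B : Type u} [CommRing A] [CommRing B] [Algebra A B] {t : A}
    (hB : Hens2.IsPairHenselization A (Ideal.span {t}) B) : QIso (algebraMap A B) t := by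
  have := Groth.Agent.Etalg.PairHens2.flat B hB
  have h := fun n => Groth.Agent.Etalg.PairHens2.quot_pow_bijective
    (Groth.Agent.Etalg.PairHens2.quot_bijective B hB) n
  have hp : ∀ n, (Ideal.span {t} ^ n : Ideal A) = Ideal.span {t ^ n} := fun n => Ideal.span_singleton_pow t n
  have hm : ∀ n, (Ideal.span {t} ^ n : Ideal A).map (algebraMap A B) = Ideal.span {algebraMap A B t ^ n} := by
    intro n
    rw [hp, span_map, map_pow]
  refine ⟨fun n a ha => ?_, fun n y => ?_⟩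
  · rw [← hp]
    rw [← hm] at ha
    have h1 : Ideal.quotientMap ((Ideal.span {t} ^ n).map (algebraMap A B)) (algebraMap A B) Ideal.le_comap_map
        (Ideal.Quotient.mk (Ideal.span {t} ^ n) a) = 0 := by
      rw [Ideal.quotientMap_mk]
      exact Ideal.Quotient.eq_zero_iff_mem.mpr ha
    exact Ideal.Quotient.eq_zero_iff_mem.mp ((h n).1 (h1.trans (map_zero _).symm))
  · obtain ⟨x, hx⟩ := (h n).2 (Ideal.Quotient.mk _ y)
    obtain ⟨c, rfl⟩ := Ideal.Quotient.mk_surjective x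
    rw [Ideal.quotientMap_mk, Ideal.Quotient.eq, hm] at hx
    exact ⟨c, hx⟩

end ring

section coh

open scoped Groth.Agent.Etcore.EtInst
open Groth.Agent.Etcore.EtInst Groth.Agent.Etcore.HpullCalc

theorem bijective_via {X Y Z : Scheme.{u}} (f : X ⟶ Y) (t : Y ⟶ Z) (f₀ : X ⟶ Z) (w : f ≫ t = f₀)
    (G : EtCoh.Ab Z) (h : Inv f ((EtCoh.pull t).obj G)) (p : ℕ) :
    Function.Bijective (EtCore.HpullVia f t f₀ w G p) :=
  (bijective_hpVia_iff f t f₀ w G p).2 (h p)

variable (K : GrothendieckTopology Scheme.{u}) [Good K] {Y Y₀ : Scheme.{u}} (e : Y₀ ⟶ Y) [IsOpenImmersion e]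
  [ContK K Y] {F : EtCoh.Ab Y} (hF : EtCoh.IsTorsion F)
  (I : InjectiveResolution ((aPullK K Y).obj F)) (hac : ∀ V, Ac K V I)

include hF hac in
/-- Henselian pairs with the same completion. -/
theorem quasiIso_hens {R₀ R₁ : Type u} [CommRing R₀] [CommRing R₁] (i : R₀ →+* R₁) (t : R₀)
    (h₀ : HenselianRing R₀ (Ideal.span {t})) (h₁ : HenselianRing R₁ (Ideal.span {i t})) (hi : QIso i t)
    {z : Spec (CommRingCat.of R₀) ⟶ Y} {z₁ : Spec (CommRingCat.of R₁) ⟶ Y} (hz : spm i ≫ z = z₁) :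
    QuasiIso (rs (pc K I) (om i hz)) := by
  refine quasiIso_rs K I (om i hz) (hac _) (hac _) fun q => bijective_via _ _ _ _ F ?_ q
  refine K23.HensStep.step i t hi (𝟙 _) (fun x _ => ⟨x, rfl⟩) (spm i) (𝟙 _)
    (IsPullback.of_vert_isIso ⟨by rw [Category.comp_id, Category.id_comp]⟩) _ ?_
  exact Groth.Agent.Etcore.Torsion.isTorsion_pull _ F hF

include hF hac in
/-- Henselian pairs with the same completion, outside the closed subscheme. -/
theorem quasiIso_hens_E {R₀ R₁ : Type u} [CommRing R₀] [CommRing R₁] (i : R₀ →+* R₁) (t : R₀)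
    (h₀ : HenselianRing R₀ (Ideal.span {t})) (h₁ : HenselianRing R₁ (Ideal.span {i t})) (hi : QIso i t)
    {z : Spec (CommRingCat.of R₀) ⟶ Y} {z₁ : Spec (CommRingCat.of R₁) ⟶ Y} (hz : spm i ≫ z = z₁)
    (hw : ∀ x : PrimeSpectrum R₀, t ∉ x.asIdeal → z x ∈ Set.range e) :
    QuasiIso (rs (pc K I) ((E e).map (om i hz))) := by
  refine quasiIso_rs K I ((E e).map (om i hz)) (hac _) (hac _) fun q => bijective_via _ _ _ _ F ?_ q
  refine K23.HensStep.step i t hi (pullback.fst z e) ?_ _ (pullback.fst z₁ e) (isPullback_E e (om i hz)) _ ?_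
  · intro x hx
    obtain ⟨y, hy⟩ := hw x hx
    obtain ⟨v, hv, -⟩ := Scheme.Pullback.exists_preimage_pullback (f := z) (g := e) x y hy.symm
    exact ⟨v, hv⟩
  · exact Groth.Agent.Etcore.Torsion.isTorsion_pull _ F hF

end coh

end K821.HensQ
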