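import Groth.Agent.EtDual.K821.Pc
import Groth.Agent.EtDual.K152.Fib
import Groth.Agent.Etcore.LimEtH
import Groth.Agent.EtpbcB.HRel
import Groth.Agent.Sga1.FPColim
import Mathlib.CategoryTheory.Limits.Constructions.Over.Connected
import Mathlib.CategoryTheory.Filtered.Connected

/-!
# Limits of affine schemes over `Y` and étale cohomology

`GoodT T`: endofunctors `T` of `Over Y` compatible with limits of affine schemes (`𝟭`, and `V ↦ V ×_Y Y₀` for
`Y₀ ⟶ Y` qcqs).

* `exists_class`: `B` an `R`-algebra; classes on `T (Spec B)` come from `T (Spec D)`, `D` finitely presented over `R`;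
* `exists_zero`: a class on `T (Spec R)` which dies on `T (Spec B)` dies on some `T (Spec D)`.
-/

set_option autoImplicit false
universe u v w u'
open CategoryTheory CategoryTheory.Limits AlgebraicGeometry Opposite ComplexShape

noncomputable section

namespace K821.Lim

open Groth.Agent.Sga1.FPColim Groth.Agent.Etcore

section good

variable {Y : Scheme.{u}}

/-- The map `V ×_Y Y₀ ⟶ W ×_Y Y₀`. -/
def El {Y₀ : Scheme.{u}} (e : Y₀ ⟶ Y) {V W : Over Y} (f : V ⟶ W) : pullback V.hom e ⟶ pullback W.hom e :=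
  pullback.lift (pullback.fst V.hom e ≫ f.left) (pullback.snd V.hom e) (by
    rw [Category.assoc, Over.w f, pullback.condition])

theorem El_eq {Y₀ : Scheme.{u}} (e : Y₀ ⟶ Y) {V W : Over Y} (f : V ⟶ W) :
    ((K152.Fib.E e).map f).left = El e f := Over.pullback_map_left _ _

/-- The square of `V ×_Y Y₀ ⟶ V`. -/
theorem isPullback_El {Y₀ : Scheme.{u}} (e : Y₀ ⟶ Y) {V W : Over Y} (f : V ⟶ W) :
    IsPullback (El e f) (pullback.fst V.hom e) (pullback.fst W.hom e) f.left := by
  refine IsPullback.of_right (h₁₂ := pullback.snd W.hom e) (v₁₃ := e) (h₂₂ := W.hom) ?_ (pullback.lift_fst _ _ _)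
    (IsPullback.of_hasPullback W.hom e).flip
  rw [El, pullback.lift_snd, Over.w f]
  exact (IsPullback.of_hasPullback V.hom e).flip

theorem isPullback_E {Y₀ : Scheme.{u}} (e : Y₀ ⟶ Y) {V W : Over Y} (f : V ⟶ W) :
    IsPullback ((K152.Fib.E e).map f).left (pullback.fst V.hom e) (pullback.fst W.hom e) f.left :=
  (El_eq e f).symm ▸ isPullback_El e f

/-- Functors compatible with limits of affine schemes. -/
structure GoodT (T : Over Y ⥤ Over Y) : Prop where
  compact : ∀ V : Over Y, CompactSpace V.left → CompactSpace (T.obj V).left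
  qs : ∀ V : Over Y, QuasiSeparatedSpace V.left → QuasiSeparatedSpace (T.obj V).left
  affine : ∀ {V W : Over Y} (f : V ⟶ W), IsAffineHom f.left → IsAffineHom (T.map f).left
  lim : ∀ {I : Type u} [SmallCategory I] [IsCofiltered I] (D : I ⥤ Over Y) (c : Cone D)
    (_ : IsLimit ((Over.forget Y).mapCone c)), Nonempty (IsLimit ((T ⋙ Over.forget Y).mapCone c))

theorem good_id : GoodT (𝟭 (Over Y)) where
  compact V h := h
  qs V h := h
  affine f h := h
  lim D c h := ⟨h⟩

theorem good_E {Y₀ : Scheme.{u}} (e : Y₀ ⟶ Y) [QuasiCompact e] [QuasiSeparated e] : GoodT (K152.Fib.E e) where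
  compact V h := by
    change CompactSpace ↥(pullback V.hom e)
    exact QuasiCompact.compactSpace_of_compactSpace (pullback.fst V.hom e)
  qs V h := by
    change QuasiSeparatedSpace ↥(pullback V.hom e)
    exact @quasiSeparatedSpace_of_quasiSeparated _ _ (pullback.fst V.hom e) h inferInstance
  affine {V W} f h := by
    exact MorphismProperty.of_isPullback (isPullback_E e f).flip h
  lim {I} _ _ D c h := by
    have : IsConnected I := IsCofiltered.isConnected I
    have h1 : IsLimit c := isLimitOfReflects (Over.forget Y) h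
    have : (Over.pullback e).IsRightAdjoint := (Over.mapPullbackAdj e).isRightAdjoint
    have h2 : IsLimit ((Over.pullback e ⋙ Over.forget Y₀).mapCone c) :=
      isLimitOfPreserves (Over.pullback e ⋙ Over.forget Y₀) h1
    exact ⟨h2⟩

end good

section diag

variable {Y : Scheme.{u}}

/-- `Spec φ` as a morphism over `Y`. -/
abbrev om {R D : Type u} [CommRing R] [CommRing D] (φ : R →+* D) {z : Spec (CommRingCat.of R) ⟶ Y}
    {z' : Spec (CommRingCat.of D) ⟶ Y} (h : Spec.map (CommRingCat.ofHom φ) ≫ z = z') : Over.mk z' ⟶ Over.mk z :=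
  Over.homMk (Spec.map (CommRingCat.ofHom φ)) h

theorem sp_comp {R D D' : Type u} [CommRing R] [CommRing D] [CommRing D'] {φ : R →+* D} {ψ : D →+* D'}
    {χ : R →+* D'} (h : ψ.comp φ = χ) {Z : Scheme.{u}} (z : Spec (CommRingCat.of R) ⟶ Z) :
    Spec.map (CommRingCat.ofHom ψ) ≫ Spec.map (CommRingCat.ofHom φ) ≫ z = Spec.map (CommRingCat.ofHom χ) ≫ z := by
  rw [← Category.assoc, ← Spec.map_comp, ← CommRingCat.ofHom_comp, h]

theorem om_comp {R D D' : Type u} [CommRing R] [CommRing D] [CommRing D'] {φ : R →+* D} {ψ : D →+* D'}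
    {χ : R →+* D'} (hc : ψ.comp φ = χ) {z : Spec (CommRingCat.of R) ⟶ Y} {z' : Spec (CommRingCat.of D) ⟶ Y}
    {z'' : Spec (CommRingCat.of D') ⟶ Y} (h : Spec.map (CommRingCat.ofHom φ) ≫ z = z')
    (h' : Spec.map (CommRingCat.ofHom ψ) ≫ z' = z'') (h'' : Spec.map (CommRingCat.ofHom χ) ≫ z = z'') :
    om ψ h' ≫ om φ h = om χ h'' := by
  ext1
  change Spec.map _ ≫ Spec.map _ = Spec.map _
  rw [← Spec.map_comp, ← CommRingCat.ofHom_comp, hc]

variable {R : Type u} (B : Type u) [CommRing R] [CommRing B] [Algebra R B] (z : Spec (CommRingCat.of R) ⟶ Y)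

/-- The structure map of a stage. -/
def stg (j : Idx R B) : CommRingCat.of R ⟶ (ringDiagram R B).obj j := CommRingCat.ofHom (algebraMap R (Stage j))

theorem stg_map {i j : Idx R B} (f : i ⟶ j) : stg B i ≫ (ringDiagram R B).map f = stg B j :=
  CommRingCat.hom_ext (AlgHom.comp_algebraMap (trans f.le))

theorem stg_ι (j : Idx R B) : stg B j ≫ (ringCocone R B).ι.app j = CommRingCat.ofHom (algebraMap R B) :=
  CommRingCat.hom_ext (AlgHom.comp_algebraMap (toC j))

/-- The diagram of the `Spec (Stage j)`. -/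
def diag : (Idx R B)ᵒᵖ ⥤ Over Y where
  obj j := Over.mk (Spec.map (stg B j.unop) ≫ z)
  map {i j} f := Over.homMk (Spec.map ((ringDiagram R B).map f.unop)) (by
    change Spec.map ((ringDiagram R B).map f.unop) ≫ Spec.map (stg B j.unop) ≫ z = Spec.map (stg B i.unop) ≫ z
    rw [← Category.assoc, ← Spec.map_comp, stg_map])
  map_id j := by
    ext1
    change Spec.map ((ringDiagram R B).map (𝟙 j.unop)) = 𝟙 _
    rw [(ringDiagram R B).map_id, Spec.map_id]
  map_comp {i j k} f g := by
    ext1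
    change Spec.map ((ringDiagram R B).map (g.unop ≫ f.unop)) = Spec.map ((ringDiagram R B).map f.unop) ≫
      Spec.map ((ringDiagram R B).map g.unop)
    rw [(ringDiagram R B).map_comp, Spec.map_comp]

/-- The cone with point `Spec B`. -/
def cone : Cone (diag B z) where
  pt := Over.mk (Spec.map (CommRingCat.ofHom (algebraMap R B)) ≫ z)
  π :=
    { app j := Over.homMk (Spec.map ((ringCocone R B).ι.app j.unop)) (by
        change Spec.map ((ringCocone R B).ι.app j.unop) ≫ Spec.map (stg B j.unop) ≫ z =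
          Spec.map (CommRingCat.ofHom (algebraMap R B)) ≫ z
        rw [← Category.assoc, ← Spec.map_comp, stg_ι]
        rfl)
      naturality {i j} f := by
        ext1
        refine (Category.id_comp _).trans ?_
        change Spec.map ((ringCocone R B).ι.app j.unop) = Spec.map ((ringCocone R B).ι.app i.unop) ≫
          Spec.map ((ringDiagram R B).map f.unop)
        rw [← Spec.map_comp, (ringCocone R B).w] }

/-- The projections. -/
def prj (j : (Idx R B)ᵒᵖ) : (cone B z).pt ⟶ (diag B z).obj j := (cone B z).π.app j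

/-- `Spec B` is the limit. -/
def isLimitCone : IsLimit ((Over.forget Y).mapCone (cone B z)) :=
  isLimitOfPreserves Scheme.Spec (isColimit R B).op

end diag

section classes

open scoped Groth.Agent.Etcore.EtInst

theorem via_eq_zero {X Y Z : Scheme.{u}} (f : X ⟶ Y) (t : Y ⟶ Z) (f₀ : X ⟶ Z) (w : f ≫ t = f₀)
    [PreservesFiniteLimits (EtCoh.pull f)] (G : EtCoh.Ab Z) (p : ℕ)
    (x : EtCoh.H Y ((EtCoh.pull t).obj G) p) (h : EtCore.Hpull f ((EtCoh.pull t).obj G) p x = 0) :
    EtCore.HpullVia f t f₀ w G p x = 0 :=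
  (congrArg ((EtCoh.HF X p).map (((EtCore.pullComp f t).symm ≪≫ EtCore.pullCongr w).app G).hom).hom h).trans
    (map_zero _)

variable {Y : Scheme.{u}} {T : Over Y ⥤ Over Y} (hT : GoodT T)
  {R : Type u} (B : Type u) [CommRing R] [CommRing B] [Algebra R B] (z : Spec (CommRingCat.of R) ⟶ Y)
  (F : EtCoh.Ab Y) (n : ℕ)

include hT in
theorem exists_class (ξ : EtCoh.H (T.obj (cone B z).pt).left ((EtCoh.pull (T.obj (cone B z).pt).hom).obj F) n) :
    ∃ (j : (Idx R B)ᵒᵖ) (x : EtCoh.H (T.obj ((diag B z).obj j)).left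
      ((EtCoh.pull (T.obj ((diag B z).obj j)).hom).obj F) n),
      EtCore.HpullVia (T.map (prj B z j)).left (T.obj ((diag B z).obj j)).hom
        (T.obj (cone B z).pt).hom (Over.w _) F n x = ξ := by
  have h1 : ∀ {i j : (Idx R B)ᵒᵖ} (f : i ⟶ j), IsAffineHom ((diag B z ⋙ T ⋙ Over.forget Y).map f) :=
    fun f => hT.affine ((diag B z).map f) (inferInstanceAs (IsAffineHom (Spec.map _)))
  have h2 : ∀ i, CompactSpace ((diag B z ⋙ T ⋙ Over.forget Y).obj i) :=
    fun i => hT.compact _ (inferInstanceAs (CompactSpace (Spec _)))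
  have h3 : ∀ i, QuasiSeparatedSpace ((diag B z ⋙ T ⋙ Over.forget Y).obj i) :=
    fun i => hT.qs _ (inferInstanceAs (QuasiSeparatedSpace (Spec _)))
  obtain ⟨hl⟩ := hT.lim _ _ (isLimitCone B z)
  exact LimEtH.surj (diag B z ⋙ T ⋙ Over.forget Y) ((T ⋙ Over.forget Y).mapCone (cone B z)) hl
    (fun i => (T.obj ((diag B z).obj i)).hom) (fun f => Over.w (T.map ((diag B z).map f)))
    (T.obj (cone B z).pt).hom (fun j => Over.w (T.map (prj B z j))) F n ξ

include hT in
theorem exists_zero (j : (Idx R B)ᵒᵖ)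
    (x : EtCoh.H (T.obj ((diag B z).obj j)).left ((EtCoh.pull (T.obj ((diag B z).obj j)).hom).obj F) n)
    (hx : EtCore.HpullVia (T.map (prj B z j)).left (T.obj ((diag B z).obj j)).hom
        (T.obj (cone B z).pt).hom (Over.w _) F n x = 0) :
    ∃ (k : (Idx R B)ᵒᵖ) (f : k ⟶ j), EtCore.HpullVia (T.map ((diag B z).map f)).left
      (T.obj ((diag B z).obj j)).hom (T.obj ((diag B z).obj k)).hom (Over.w _) F n x = 0 := by
  have h1 : ∀ {i j : (Idx R B)ᵒᵖ} (f : i ⟶ j), IsAffineHom ((diag B z ⋙ T ⋙ Over.forget Y).map f) :=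
    fun f => hT.affine ((diag B z).map f) (inferInstanceAs (IsAffineHom (Spec.map _)))
  have h2 : ∀ i, CompactSpace ((diag B z ⋙ T ⋙ Over.forget Y).obj i) :=
    fun i => hT.compact _ (inferInstanceAs (CompactSpace (Spec _)))
  have h3 : ∀ i, QuasiSeparatedSpace ((diag B z ⋙ T ⋙ Over.forget Y).obj i) :=
    fun i => hT.qs _ (inferInstanceAs (QuasiSeparatedSpace (Spec _)))
  obtain ⟨hl⟩ := hT.lim _ _ (isLimitCone B z)
  obtain ⟨k, f, h⟩ := LimEtH.inj (diag B z ⋙ T ⋙ Over.forget Y) ((T ⋙ Over.forget Y).mapCone (cone B z)) hl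
    (fun i => (T.obj ((diag B z).obj i)).hom) (fun f => Over.w (T.map ((diag B z).map f)))
    (T.obj (cone B z).pt).hom (fun j => Over.w (T.map (prj B z j))) F n j x hx
  exact ⟨k, f, via_eq_zero _ _ _ _ F n x h⟩

end classes

section complexes

open scoped Groth.Agent.Etcore.EtInst
open K343.Basic Dict Pc HC Groth.Agent.Htor.H253.AbQuasi

attribute [local instance] isGrothendieckAbelian_AbK

variable (K : GrothendieckTopology Scheme.{u}) [Good K] {Y : Scheme.{u}} [ContK K Y] {F : EtCoh.Ab Y}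
  (I : InjectiveResolution ((aPullK K Y).obj F)) (hac : ∀ V, Ac K V I)
  {T : Over Y ⥤ Over Y} (hT : GoodT T)
  {R : Type u} (B : Type u) [CommRing R] [CommRing B] [Algebra R B] (z : Spec (CommRingCat.of R) ⟶ Y)

theorem hmap_comp {V₁ V₂ V₃ : Over Y} (A : CochainComplex ((Over Y)ᵒᵖ ⥤ AddCommGrpCat.{u + 1}) ℤ) (f : V₁ ⟶ V₂)
    (g : V₂ ⟶ V₃) (n : ℤ) (x : (ev A V₃).homology n) :
    HomologicalComplex.homologyMap (rs A f) n (HomologicalComplex.homologyMap (rs A g) n x) =
      HomologicalComplex.homologyMap (rs A (f ≫ g)) n x := by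
  rw [rs_comp, HomologicalComplex.homologyMap_comp]
  rfl

include hT hac in
/-- Classes on `T (Spec B)` come from a finitely presented algebra. -/
theorem colim_surj (n : ℤ) (ξ : (ev (pc K I) (T.obj (cone B z).pt)).homology n) :
    ∃ (j : (Idx R B)ᵒᵖ) (x : (ev (pc K I) (T.obj ((diag B z).obj j))).homology n),
      HomologicalComplex.homologyMap (rs (pc K I) (T.map (prj B z j))) n x = ξ := by
  rcases lt_or_ge n 0 with hn | hn
  · refine ⟨op (Classical.arbitrary _), 0, ?_⟩
    have : Subsingleton ↑((ev (pc K I) (T.obj (cone B z).pt)).homology n) :=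
      AddCommGrpCat.subsingleton_of_isZero (isZero_homology K I _ n hn)
    exact Subsingleton.elim _ _
  · obtain ⟨q, rfl⟩ := Int.eq_ofNat_of_zero_le hn
    obtain ⟨j, x, hx⟩ := exists_class hT B z F q (hIso K I _ (hac _) q _ rfl ξ)
    refine ⟨j, (hIso K I _ (hac _) q _ rfl).symm x, ?_⟩
    apply (hIso K I _ (hac _) q _ rfl).injective
    rw [hIso_nat K I (T.map (prj B z j)) (hac _) (hac _), AddEquiv.apply_symm_apply, hx]

include hT hac in
/-- Classes on `T (Spec R)` which die on `T (Spec B)` die on a finitely presented algebra. -/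
theorem colim_inj (n : ℤ) (x : (ev (pc K I) (T.obj (Over.mk z))).homology n)
    (hx : HomologicalComplex.homologyMap (rs (pc K I) (T.map (om (algebraMap R B) rfl))) n x = 0) :
    ∃ (j : (Idx R B)ᵒᵖ), HomologicalComplex.homologyMap (rs (pc K I) (T.map
      (om (algebraMap R (Stage j.unop)) rfl :
        Over.mk (Spec.map (CommRingCat.ofHom (algebraMap R (Stage j.unop))) ≫ z) ⟶ Over.mk z))) n x = 0 := by
  rcases lt_or_ge n 0 with hn | hn
  · refine ⟨op (Classical.arbitrary _), ?_⟩
    have : Subsingleton ↑((ev (pc K I) (T.obj (Over.mk z))).homology n) :=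
      AddCommGrpCat.subsingleton_of_isZero (isZero_homology K I _ n hn)
    rw [Subsingleton.elim x 0]
    exact map_zero _
  · obtain ⟨q, rfl⟩ := Int.eq_ofNat_of_zero_le hn
    let s : ∀ j : (Idx R B)ᵒᵖ, (diag B z).obj j ⟶ Over.mk z := fun j => Over.homMk (Spec.map (stg B j.unop)) rfl
    have hs : ∀ j, prj B z j ≫ s j = om (algebraMap R B) rfl := by
      intro j
      ext1
      change Spec.map ((ringCocone R B).ι.app j.unop) ≫ Spec.map (stg B j.unop) = Spec.map _
      rw [← Spec.map_comp, stg_ι]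
    have hs' : ∀ {j k : (Idx R B)ᵒᵖ} (f : k ⟶ j), (diag B z).map f ≫ s j = s k := by
      intro j k f
      ext1
      change Spec.map ((ringDiagram R B).map f.unop) ≫ Spec.map (stg B j.unop) = Spec.map _
      rw [← Spec.map_comp, stg_map]
    let j₀ : (Idx R B)ᵒᵖ := op (Classical.arbitrary _)
    let x₀ := HomologicalComplex.homologyMap (rs (pc K I) (T.map (s j₀))) (q : ℤ) x
    have h0 : HomologicalComplex.homologyMap (rs (pc K I) (T.map (prj B z j₀))) (q : ℤ) x₀ = 0 := by
      rw [hmap_comp, ← T.map_comp, hs]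
      exact hx
    obtain ⟨k, f, hk⟩ := exists_zero hT B z F q j₀ (hIso K I _ (hac _) q _ rfl x₀) (by
      rw [← hIso_nat K I (T.map (prj B z j₀)) (hac _) (hac _), h0, map_zero])
    refine ⟨k, ?_⟩
    rw [← hIso_nat K I (T.map ((diag B z).map f)) (hac _) (hac _), AddEquiv.map_eq_zero_iff, hmap_comp,
      ← T.map_comp, hs'] at hk
    exact hk

end complexes

end K821.Lim
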