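import Groth.Agent.EtDual.K821.Lim
import Groth.Agent.EtDual.K821.Exc
import Groth.Agent.AdicRing.K23.EtNbhd
import Groth.Agent.EtCoh.K23.LocAlg
import Groth.Agent.Sga2lef.H107.FibreLoc

/-!
# The henselization of a pair `(C, (w))` and homotopy cartesian squares

`e : Y₀ ⟶ Y` an open immersion (qc), `z : Spec C ⟶ Y` with `z x ∈ Y₀` whenever `w ∉ x`; `B` the henselization of
`(C, (w))`.  The square `A(Spec C) ⟶ A(Spec C ×_Y Y₀)`, `A(Spec B) ⟶ A(Spec B ×_Y Y₀)` is homotopy cartesian, `A` the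
presheaf complex of an injective resolution of `a⁻¹ F`.
-/

set_option autoImplicit false
universe u v w u'
open CategoryTheory CategoryTheory.Limits AlgebraicGeometry Opposite ComplexShape

noncomputable section

namespace K821.Nbh

open Groth.Agent.Sga1.FPColim Groth.Agent.Etcore K821.Lim K23.EtNbhd
open K343.Basic Dict Pc HC

attribute [local instance] isGrothendieckAbelian_AbK

/-- Étale neighbourhoods of `(C, (w))` with a map to `B`. -/
structure Nb (C : Type u) [CommRing C] (w : C) (B : Type u) [CommRing B] [Algebra C B] where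
  /-- the ring -/
  R : Type u
  [cr : CommRing R]
  [al : Algebra C R]
  nb : IsNbhd (Ideal.span {w}) R
  /-- the map to `B` -/
  g : R →ₐ[C] B

attribute [instance] Nb.cr Nb.al

section cat

variable {C : Type u} [CommRing C] {w : C} {B : Type u} [CommRing B] [Algebra C B]

/-- Morphisms. -/
@[ext] structure Nb.Hom (j k : Nb C w B) where
  /-- the algebra map -/
  f : j.R →ₐ[C] k.R
  hf : k.g.comp f = j.g

instance : Category (Nb C w B) where
  Hom := Nb.Hom
  id j := ⟨AlgHom.id C _, AlgHom.comp_id _⟩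
  comp a b := ⟨b.f.comp a.f, by rw [← AlgHom.comp_assoc, b.hf, a.hf]⟩

/-- The trivial neighbourhood. -/
def base (C : Type u) [CommRing C] (w : C) (B : Type u) [CommRing B] [Algebra C B] : Nb C w B where
  R := C
  nb := ⟨inferInstance, fun c => ⟨c, by simp⟩, fun c hc => by simpa using hc⟩
  g := Algebra.ofId C B

variable {Y : Scheme.{u}} (z : Spec (CommRingCat.of C) ⟶ Y)

/-- `Spec R` over `Y`. -/
def P : Nb C w B ⥤ (Over Y)ᵒᵖ where
  obj j := op (Over.mk (Spec.map (CommRingCat.ofHom (algebraMap C j.R)) ≫ z))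
  map f := (om f.f.toRingHom (sp_comp f.f.comp_algebraMap z)).op
  map_id j := by
    apply Quiver.Hom.unop_inj
    ext1
    exact Spec.map_id _
  map_comp f g := by
    apply Quiver.Hom.unop_inj
    ext1
    exact Spec.map_comp (CommRingCat.ofHom f.f.toRingHom) (CommRingCat.ofHom g.f.toRingHom)

/-- The values of a presheaf complex, as a functor. -/
def evF (A : CochainComplex ((Over Y)ᵒᵖ ⥤ AddCommGrpCat.{u + 1}) ℤ) :
    (Over Y)ᵒᵖ ⥤ CochainComplex AddCommGrpCat.{u + 1} ℤ where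
  obj V := ev A V.unop
  map f := rs A f.unop
  map_id V := rs_id A V.unop
  map_comp f g := rs_comp A g.unop f.unop

end cat

section colim

variable (K : GrothendieckTopology Scheme.{u}) [Good K] {Y : Scheme.{u}} [ContK K Y] {F : EtCoh.Ab Y}
  (I : InjectiveResolution ((aPullK K Y).obj F)) (hac : ∀ V, Ac K V I)
  {T : Over Y ⥤ Over Y} (hT : GoodT T)
  {C : Type u} [CommRing C] {w : C} {B : Type u} [CommRing B] [Algebra C B]
  (hB : Hens2.IsPairHenselization C (Ideal.span {w}) B)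
  (z : Spec (CommRingCat.of C) ⟶ Y) {zB : Spec (CommRingCat.of B) ⟶ Y}
  (hz : Spec.map (CommRingCat.ofHom (algebraMap C B)) ≫ z = zB)

include hz in
theorem w_g (j : Nb C w B) : Spec.map (CommRingCat.ofHom j.g.toRingHom) ≫
    Spec.map (CommRingCat.ofHom (algebraMap C j.R)) ≫ z = zB :=
  (sp_comp (ψ := j.g.toRingHom) (AlgHom.comp_algebraMap j.g) z).trans hz

/-- The map `Spec B ⟶ Spec R`. -/
def toR (j : Nb C w B) : Over.mk zB ⟶ ((P z).obj j).unop := om j.g.toRingHom (w_g z hz j)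

theorem toR_comp {j k : Nb C w B} (f : j ⟶ k) : toR z hz k ≫ ((P z).map f).unop = toR z hz j := by
  ext1
  change Spec.map _ ≫ Spec.map _ = Spec.map _
  rw [← Spec.map_comp, ← CommRingCat.ofHom_comp]
  congr 2
  exact congrArg AlgHom.toRingHom f.hf

/-- The functor `R ↦ A(T (Spec R))`. -/
abbrev KT (T : Over Y ⥤ Over Y) (A : CochainComplex ((Over Y)ᵒᵖ ⥤ AddCommGrpCat.{u + 1}) ℤ) :
    Nb C w B ⥤ CochainComplex AddCommGrpCat.{u + 1} ℤ := P z ⋙ T.op ⋙ evF A

/-- The maps to the value on `Spec B`. -/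
abbrev al (T : Over Y ⥤ Over Y) (A : CochainComplex ((Over Y)ᵒᵖ ⥤ AddCommGrpCat.{u + 1}) ℤ) (j : Nb C w B) :
    (KT z T A).obj j ⟶ ev A (T.obj (Over.mk zB)) := rs A (T.map (toR z hz j))

theorem al_nat (T : Over Y ⥤ Over Y) (A : CochainComplex ((Over Y)ᵒᵖ ⥤ AddCommGrpCat.{u + 1}) ℤ) {j k : Nb C w B}
    (f : j ⟶ k) : (KT z T A).map f ≫ al z hz T A k = al z hz T A j := by
  change rs A (T.map ((P z).map f).unop) ≫ rs A (T.map (toR z hz k)) = _
  rw [← rs_comp, ← T.map_comp, toR_comp]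

include hB in
/-- Factorization of a finitely presented algebra through a neighbourhood, relative form. -/
theorem exists_nb (j : Nb C w B) (D : Type u) [CommRing D] [Algebra j.R D] [Algebra.FinitePresentation j.R D]
    (h : D →+* B) (hh : ∀ x, h (algebraMap j.R D x) = j.g x) :
    ∃ (k : Nb C w B) (f : j ⟶ k) (ψ : D →+* k.R), (∀ x, ψ (algebraMap j.R D x) = f.f x) ∧ ∀ x, k.g (ψ x) = h x := by
  let : Algebra C D := ((algebraMap j.R D).comp (algebraMap C j.R)).toAlgebra
  have : IsScalarTower C j.R D := IsScalarTower.of_algebraMap_eq' rfl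
  have : Algebra.Etale C j.R := j.nb.1
  have : Algebra.FinitePresentation C D := Algebra.FinitePresentation.trans C j.R D
  let h' : D →ₐ[C] B :=
    { h with
      commutes' := fun c => by
        change h (algebraMap j.R D (algebraMap C j.R c)) = _
        rw [hh, AlgHom.commutes] }
  obtain ⟨A', i1, i2, hA', ψ, g, hg⟩ := exists_factor hB D h'
  let k : Nb C w B := { R := A', nb := hA', g := g }
  refine ⟨k, ⟨ψ.comp (IsScalarTower.toAlgHom C j.R D), ?_⟩, ψ.toRingHom, fun x => rfl, hg⟩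
  ext x
  exact (hg _).trans (hh x)

theorem hmap_zero (T : Over Y ⥤ Over Y) (A : CochainComplex ((Over Y)ᵒᵖ ⥤ AddCommGrpCat.{u + 1}) ℤ) {V₁ V₂ V₃ : Over Y}
    (f : V₁ ⟶ V₂) (g : V₂ ⟶ V₃) (h : V₁ ⟶ V₃) (hh : f ≫ g = h) (n : ℤ) (x : (ev A (T.obj V₃)).homology n)
    (hx : HomologicalComplex.homologyMap (rs A (T.map g)) n x = 0) :
    HomologicalComplex.homologyMap (rs A (T.map h)) n x = 0 := by
  rw [← hh, T.map_comp, ← hmap_comp, hx, map_zero]

/-- The structure morphism of a stage. -/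
def sr {R : Type u} (B : Type u) [CommRing R] [CommRing B] [Algebra R B] (z : Spec (CommRingCat.of R) ⟶ Y)
    (j : (Idx R B)ᵒᵖ) : (diag B z).obj j ⟶ Over.mk z := Over.homMk (Spec.map (stg B j.unop)) rfl

include hB in
theorem exists_nb' (j : Nb C w B) [Algebra j.R B] (hj : ∀ x, algebraMap j.R B x = j.g x) (i : (Idx j.R B)ᵒᵖ) :
    ∃ (k : Nb C w B) (f : j ⟶ k) (μ : ((P z).obj k).unop ⟶
      (diag B (Spec.map (CommRingCat.ofHom (algebraMap C j.R)) ≫ z)).obj i)
      (o : Over.mk zB ⟶ (cone B (Spec.map (CommRingCat.ofHom (algebraMap C j.R)) ≫ z)).pt), o.left = 𝟙 _ ∧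
      toR z hz k ≫ μ = o ≫ prj B _ i ∧ μ ≫ sr B _ i = ((P z).map f).unop := by
  obtain ⟨k, f, ψ, h1, h2⟩ := exists_nb hB j (Stage i.unop) (toC i.unop).toRingHom
    (fun x => ((toC i.unop).commutes x).trans (hj x))
  have h3 : ψ.comp (algebraMap j.R (Stage i.unop)) = f.f.toRingHom := RingHom.ext h1
  have h4 : k.g.toRingHom.comp ψ = (toC i.unop).toRingHom := RingHom.ext h2
  have h5 : algebraMap j.R B = j.g.toRingHom := RingHom.ext hj
  refine ⟨k, f, Over.homMk (Spec.map (CommRingCat.ofHom ψ)) ?_, Over.homMk (𝟙 _) ?_, rfl, ?_, ?_⟩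
  · change Spec.map (CommRingCat.ofHom ψ) ≫ Spec.map (CommRingCat.ofHom (algebraMap j.R (Stage i.unop))) ≫ _ =
      Spec.map (CommRingCat.ofHom (algebraMap C k.R)) ≫ z
    rw [sp_comp h3]
    exact sp_comp (AlgHom.comp_algebraMap f.f) z
  · change 𝟙 _ ≫ Spec.map (CommRingCat.ofHom (algebraMap j.R B)) ≫ _ = zB
    rw [Category.id_comp, h5]
    exact w_g z hz j
  · ext1
    change Spec.map (CommRingCat.ofHom k.g.toRingHom) ≫ Spec.map (CommRingCat.ofHom ψ) =
      𝟙 _ ≫ Spec.map (CommRingCat.ofHom (toC i.unop).toRingHom)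
    rw [← Spec.map_comp, ← CommRingCat.ofHom_comp, h4, Category.id_comp]
  · ext1
    change Spec.map (CommRingCat.ofHom ψ) ≫ Spec.map (CommRingCat.ofHom (algebraMap j.R (Stage i.unop))) =
      Spec.map (CommRingCat.ofHom f.f.toRingHom)
    rw [← Spec.map_comp, ← CommRingCat.ofHom_comp, h3]

include hac hT hB in
theorem colSurj : ColSurj (KT (w := w) z T (pc K I)) (al (w := w) z hz T (pc K I)) := by
  refine colSurj_of_homology _ ?_
  intro n j ξ
  let : Algebra j.R B := j.g.toRingHom.toAlgebra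
  let zj := Spec.map (CommRingCat.ofHom (algebraMap C j.R)) ≫ z
  let ι : (cone B zj).pt ⟶ Over.mk zB := Over.homMk (𝟙 _) (by
    refine (Category.id_comp _).trans ?_
    exact (w_g z hz j).symm)
  obtain ⟨i, x, hx⟩ := colim_surj K I hac hT B zj n (HomologicalComplex.homologyMap (rs (pc K I) (T.map ι)) n ξ)
  obtain ⟨k, f, μ, o, ho, h1, -⟩ := exists_nb' hB z hz j (fun x => rfl) i
  refine ⟨k, f, HomologicalComplex.homologyMap (rs (pc K I) (T.map μ)) n x, ?_⟩
  change HomologicalComplex.homologyMap (rs (pc K I) (T.map (toR z hz k))) n _ = ξ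
  have h2 : o ≫ ι = 𝟙 _ := by
    ext1
    change o.left ≫ 𝟙 _ = 𝟙 _
    rw [ho]
    exact Category.comp_id _
  rw [hmap_comp, ← T.map_comp, h1, T.map_comp, ← hmap_comp, hx, hmap_comp, ← T.map_comp, h2, T.map_id, rs_id,
    HomologicalComplex.homologyMap_id]
  rfl

include hac hT hB in
theorem colInj : ColInj (KT (w := w) z T (pc K I)) (al (w := w) z hz T (pc K I)) := by
  refine colInj_of_homology _ ?_
  intro n j x hx
  let : Algebra j.R B := j.g.toRingHom.toAlgebra
  let zj := Spec.map (CommRingCat.ofHom (algebraMap C j.R)) ≫ z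
  let ι : (cone B zj).pt ⟶ Over.mk zB := Over.homMk (𝟙 _) (by
    refine (Category.id_comp _).trans ?_
    exact (w_g z hz j).symm)
  have h0 : ι ≫ toR z hz j = om (algebraMap j.R B) rfl := by
    ext1
    exact Category.id_comp _
  obtain ⟨i, hi⟩ := colim_inj K I hac hT B zj n x (hmap_zero T (pc K I) ι (toR z hz j) _ h0 n x hx)
  obtain ⟨k, f, μ, o, ho, -, h1⟩ := exists_nb' hB z hz j (fun x => rfl) i
  exact ⟨k, f, hmap_zero T (pc K I) μ (sr B zj i) _ h1 n x hi⟩

end colim

section hc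

open Groth.Agent.Etrest.StrictLoc K152.Fib

theorem isIso_snd {C R : Type u} [CommRing C] [CommRing R] (I : Ideal C) (φ : C →+* R)
    (h1 : ∀ x : R, ∃ c, φ c - x ∈ I.map φ) (h2 : ∀ c, φ c ∈ I.map φ → c ∈ I) :
    IsIso (pullback.snd (spm φ) (spm (Ideal.Quotient.mk I))) := by
  let ψ : C ⧸ I →+* R ⧸ I.map φ := Ideal.quotientMap _ φ Ideal.le_comap_map
  have hψ : ∀ x, ψ (Ideal.Quotient.mk I x) = Ideal.Quotient.mk _ (φ x) := fun x => Ideal.quotientMap_mk
  have hb : Function.Bijective ψ := by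
    constructor
    · rw [injective_iff_map_eq_zero]
      intro x hx
      obtain ⟨x, rfl⟩ := Ideal.Quotient.mk_surjective x
      exact Ideal.Quotient.eq_zero_iff_mem.2 (h2 _ (Ideal.Quotient.eq_zero_iff_mem.1 ((hψ x).symm.trans hx)))
    · intro y
      obtain ⟨y, rfl⟩ := Ideal.Quotient.mk_surjective y
      obtain ⟨a, ha⟩ := h1 y
      exact ⟨Ideal.Quotient.mk I a, (hψ a).trans (Ideal.Quotient.eq.2 ha)⟩
  have sq := Groth.Agent.Sga2lef.H107.FibreLoc.isPullback_quot φ (Ideal.Quotient.mk I) Ideal.Quotient.mk_surjective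
    (I.map φ) (by rw [Ideal.mk_ker]) ψ (RingHom.ext hψ)
  have hψi : IsIso (spm ψ) := Groth.Agent.Sga1.UlaSL.isIso_spm ψ hb
  have h3 : pullback.snd (spm φ) (spm (Ideal.Quotient.mk I)) = sq.isoPullback.inv ≫ spm ψ :=
    (sq.isoPullback_inv_snd).symm
  rw [h3]
  infer_instance

variable (K : GrothendieckTopology Scheme.{u}) [Good K] {Y Y₀ : Scheme.{u}} (e : Y₀ ⟶ Y) [IsOpenImmersion e]

theorem hc_sq (A : CochainComplex (AbK K Y) ℤ) (hA : ∀ n, Injective (A.X n))
    {C R : Type u} [CommRing C] [CommRing R] (w : C) (φ : C →+* R) (hφ : Etale (spm φ))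
    (h1 : ∀ x : R, ∃ c, φ c - x ∈ (Ideal.span {w}).map φ) (h2 : ∀ c, φ c ∈ (Ideal.span {w}).map φ → c ∈ Ideal.span {w})
    {z : Spec (CommRingCat.of C) ⟶ Y} {z' : Spec (CommRingCat.of R) ⟶ Y} (hz : spm φ ≫ z = z')
    (hw : ∀ x : PrimeSpectrum C, w ∉ x.asIdeal → z x ∈ Set.range e) :
    IsHC (rs (PC A) ((cou e).app (Over.mk z))) (rs (PC A) ((cou e).app (Over.mk z')))
      (rs (PC A) (om φ hz)) (rs (PC A) ((E e).map (om φ hz))) := by
  have hl : ∀ V : Over Y, ((cou e).app V).left = pullback.fst V.hom e := fun V => cou_left e V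
  refine Exc.hc A hA (om φ hz) ((cou e).app (Over.mk z)) ((cou e).app (Over.mk z')) ((E e).map (om φ hz))
    (spm (Ideal.Quotient.mk (Ideal.span {w}))) hφ ?_ ?_ ?_ (isIso_snd _ φ h1 h2)
  · rw [hl]
    exact inferInstanceAs (IsOpenImmersion (pullback.fst z e))
  · rw [hl, hl]
    exact (isPullback_E e (om φ hz)).flip
  · intro x
    rw [hl]
    by_cases hx : w ∈ x.asIdeal
    · right
      have h3 : Set.range (spm (Ideal.Quotient.mk (Ideal.span {w}))) = PrimeSpectrum.zeroLocus {w} := by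
        refine (range_comap_of_surjective _ _ Ideal.Quotient.mk_surjective).trans ?_
        rw [Ideal.mk_ker, PrimeSpectrum.zeroLocus_span]
      rw [h3]
      exact Set.singleton_subset_iff.2 hx
    · left
      obtain ⟨y, hy⟩ := hw x hx
      obtain ⟨v, hv, -⟩ := Scheme.Pullback.exists_preimage_pullback (f := z) (g := e) x y hy.symm
      exact ⟨v, hv⟩

variable [ContK K Y] {F : EtCoh.Ab Y}
  (I : InjectiveResolution ((aPullK K Y).obj F)) (hac : ∀ V, Ac K V I)

/-- The natural transformation `A(Spec R) ⟶ A(Spec R ×_Y Y₀)`. -/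
def nt {C : Type u} [CommRing C] (w : C) (B : Type u) [CommRing B] [Algebra C B] (z : Spec (CommRingCat.of C) ⟶ Y)
    (A : CochainComplex ((Over Y)ᵒᵖ ⥤ AddCommGrpCat.{u + 1}) ℤ) :
    KT (w := w) (B := B) z (𝟭 (Over Y)) A ⟶ KT (w := w) (B := B) z (E e) A where
  app j := rs A ((cou e).app ((P z).obj j).unop)
  naturality {j k} f := (rs_sq A ((cou e).naturality ((P z).map f).unop)).symm

include hac in
theorem hc_hens_aux [QuasiCompact e] {C : Type u} [CommRing C] {w : C} {B : Type u} [CommRing B] [Algebra C B]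
    (hB : Hens2.IsPairHenselization C (Ideal.span {w}) B)
    (z : Spec (CommRingCat.of C) ⟶ Y) {zB : Spec (CommRingCat.of B) ⟶ Y}
    (hz : spm (algebraMap C B) ≫ z = zB)
    (hw : ∀ x : PrimeSpectrum C, w ∉ x.asIdeal → z x ∈ Set.range e) :
    IsHC (rs (pc K I) ((cou e).app ((P z).obj (base C w B)).unop)) (rs (pc K I) ((cou e).app (Over.mk zB)))
      (rs (pc K I) (toR z hz (base C w B))) (rs (pc K I) ((E e).map (toR z hz (base C w B)))) := by
  refine hc_of_colim (nt e w B z (pc K I)) (rs (pc K I) ((cou e).app (Over.mk zB)))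
    (al (w := w) z hz (𝟭 (Over Y)) (pc K I)) (al (w := w) z hz (E e) (pc K I))
    (fun j k f => al_nat z hz _ _ f) (fun j k f => al_nat z hz _ _ f)
    (fun j => rs_sq (pc K I) ((cou e).naturality (toR z hz j)))
    (colSurj K I hac good_id hB z hz) (colInj K I hac good_id hB z hz)
    (colSurj K I hac (good_E e) hB z hz) (colInj K I hac (good_E e) hB z hz) (base C w B) ?_
  intro k f
  have : Algebra.Etale C k.R := k.nb.1
  have hff : f.f.toRingHom = algebraMap C k.R := AlgHom.comp_algebraMap f.f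
  have hzz : spm f.f.toRingHom ≫ Spec.map (CommRingCat.ofHom (algebraMap C (base C w B).R)) ≫ z =
      Spec.map (CommRingCat.ofHom (algebraMap C k.R)) ≫ z := sp_comp (ψ := f.f.toRingHom) f.f.comp_algebraMap z
  refine hc_sq K e I.cochainComplex (fun n => inferInstance) w f.f.toRingHom ?_ ?_ ?_ hzz ?_
  · rw [hff]
    exact HasRingHomProperty.Spec_iff.2 (RingHom.etale_algebraMap.2 inferInstance)
  · rw [hff]
    exact k.nb.2.1
  · rw [hff]
    exact k.nb.2.2
  · have h1 : Spec.map (CommRingCat.ofHom (algebraMap C (base C w B).R)) ≫ z = z := by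
      refine (congrArg (· ≫ z) (Spec.map_id _)).trans (Category.id_comp _)
    rw [h1]
    exact hw

include hac in
/-- **The henselization of a pair gives a homotopy cartesian square.** -/
theorem hc_hens [QuasiCompact e] {C : Type u} [CommRing C] {w : C} {B : Type u} [CommRing B] [Algebra C B]
    (hB : Hens2.IsPairHenselization C (Ideal.span {w}) B)
    (z : Spec (CommRingCat.of C) ⟶ Y) {zB : Spec (CommRingCat.of B) ⟶ Y}
    (hz : spm (algebraMap C B) ≫ z = zB)
    (hw : ∀ x : PrimeSpectrum C, w ∉ x.asIdeal → z x ∈ Set.range e) :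
    IsHC (rs (pc K I) ((cou e).app (Over.mk z))) (rs (pc K I) ((cou e).app (Over.mk zB)))
      (rs (pc K I) (om (algebraMap C B) hz)) (rs (pc K I) ((E e).map (om (algebraMap C B) hz))) := by
  have key : ∀ (z' : Spec (CommRingCat.of C) ⟶ Y) (h : spm (algebraMap C B) ≫ z' = zB),
      z' = Spec.map (CommRingCat.ofHom (algebraMap C (base C w B).R)) ≫ z →
      IsHC (rs (pc K I) ((cou e).app (Over.mk z'))) (rs (pc K I) ((cou e).app (Over.mk zB)))
        (rs (pc K I) (om (algebraMap C B) h)) (rs (pc K I) ((E e).map (om (algebraMap C B) h))) := by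
    rintro _ h rfl
    exact hc_hens_aux K e I hac hB z hz hw
  exact key z hz ((congrArg (· ≫ z) (Spec.map_id _)).trans (Category.id_comp _)).symm

end hc

end K821.Nbh
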