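import Groth.Agent.EtDual.K821.HC
import Groth.Agent.EtDual.K821.Dict
import Groth.Agent.Cohder.RDInt

/-!
# The presheaf complex of an injective resolution and étale cohomology

* `ev A Z`, `rs A g`: values and restriction maps of a presheaf complex `A`;
* `pc K I`: the presheaf complex of an injective resolution `I`;
* `hIso`: `H^q (pc K I (V)) ≃+ H^q_ét(V, F|_V)`, natural (`hIso_nat`);
* `quasiIso_rs`: `rs (pc K I) g` is a quasi-isomorphism if `g` induces isomorphisms in étale cohomology;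
* `colSurj_of_homology`, `colInj_of_homology`.
-/

set_option autoImplicit false
universe u v w u'
open CategoryTheory CategoryTheory.Limits AlgebraicGeometry Opposite CategoryTheory.Abelian ComplexShape

noncomputable section

namespace K821.Pc

open Groth.Agent.Etcore.AbHomology Groth.Agent.Htor.H253.AbQuasi HC

section presheaf

variable {C : Type u'} [Category.{v} C] (A : CochainComplex (Cᵒᵖ ⥤ AddCommGrpCat.{w}) ℤ)

/-- The value of a presheaf complex. -/
abbrev ev (Z : C) : CochainComplex AddCommGrpCat.{w} ℤ :=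
  (((evaluation Cᵒᵖ AddCommGrpCat.{w}).obj (op Z)).mapHomologicalComplex (up ℤ)).obj A

/-- The restriction maps of a presheaf complex. -/
abbrev rs {Z' Z : C} (g : Z' ⟶ Z) : ev A Z ⟶ ev A Z' :=
  (NatTrans.mapHomologicalComplex ((evaluation Cᵒᵖ AddCommGrpCat.{w}).map g.op) (up ℤ)).app A

theorem rs_f {Z' Z : C} (g : Z' ⟶ Z) (n : ℤ) (z : (ev A Z).X n) : (rs A g).f n z = (A.X n).map g.op z := rfl

theorem ev_d (Z : C) (n m : ℤ) (z : (ev A Z).X n) : (ev A Z).d n m z = (A.d n m).app (op Z) z := rfl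

theorem rs_comp {Z'' Z' Z : C} (h : Z'' ⟶ Z') (g : Z' ⟶ Z) : rs A (h ≫ g) = rs A g ≫ rs A h := by
  ext n z
  exact congr($((A.X n).map_comp g.op h.op) z)

theorem rs_id (Z : C) : rs A (𝟙 Z) = 𝟙 _ := by
  ext n z
  exact congr($((A.X n).map_id (op Z)) z)

theorem isIso_rs {Z' Z : C} (g : Z' ⟶ Z) [IsIso g] : IsIso (rs A g) :=
  ⟨rs A (inv g), by rw [← rs_comp, IsIso.inv_hom_id, rs_id], by rw [← rs_comp, IsIso.hom_inv_id, rs_id]⟩

theorem rs_sq {Z U Z' U' : C} {j : U ⟶ Z} {j' : U' ⟶ Z'} {f : Z' ⟶ Z} {g : U' ⟶ U} (w : g ≫ j = j' ≫ f) :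
    rs A j ≫ rs A g = rs A f ≫ rs A j' := by
  rw [← rs_comp, ← rs_comp, w]

end presheaf

section homology

variable {J : Type*} [Category* J] {K : J ⥤ CochainComplex AddCommGrpCat.{w} ℤ}
  {K' : CochainComplex AddCommGrpCat.{w} ℤ} (α : ∀ j, K.obj j ⟶ K')

theorem colSurj_of_homology
    (h : ∀ (n : ℤ) (j : J) (ξ : K'.homology n), ∃ (k : J) (_ : j ⟶ k) (x : (K.obj k).homology n),
      HomologicalComplex.homologyMap (α k) n x = ξ) : ColSurj K α := by
  intro j l n m hl hm z hz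
  obtain ⟨c, rfl⟩ := exists_cycles K' z m (by simp; lia) hz
  obtain ⟨k, f, x, hx⟩ := h n j (K'.homologyπ n c)
  obtain ⟨x, rfl⟩ := homologyπ_surj _ x
  rw [homologyMap_π, ← sub_eq_zero, ← map_sub, homologyπ_eq_zero_iff K' _ l (by simp; lia)] at hx
  obtain ⟨w, hw⟩ := hx
  refine ⟨k, f, (K.obj k).iCycles n x, w, d_iCycles _ _ _, ?_⟩
  rw [hw, map_sub, cyclesMap_i]
  abel

theorem colInj_of_homology
    (h : ∀ (n : ℤ) (j : J) (x : (K.obj j).homology n), HomologicalComplex.homologyMap (α j) n x = 0 →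
      ∃ (k : J) (f : j ⟶ k), HomologicalComplex.homologyMap (K.map f) n x = 0) : ColInj K α := by
  intro j l n m hl hm z w hz hw
  obtain ⟨c, rfl⟩ := exists_cycles (K.obj j) z m (by simp; lia) hz
  obtain ⟨k, f, hk⟩ := h n j ((K.obj j).homologyπ n c) (by
    rw [homologyMap_π, homologyπ_eq_zero_iff K' _ l (by simp; lia)]
    exact ⟨w, by rw [cyclesMap_i, hw]⟩)
  rw [homologyMap_π, homologyπ_eq_zero_iff _ _ l (by simp; lia)] at hk
  obtain ⟨v, hv⟩ := hk
  exact ⟨k, f, v, by rw [hv, cyclesMap_i]⟩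

end homology

section main

open Groth.Agent.Etrest Groth.Agent.Etrest.BigEtSite Groth.Agent.Etrest.BigPush Groth.Agent.Etcore.PullCoh
open K343.Basic K343.Res Dict

attribute [local instance] isGrothendieckAbelian_AbK

variable (K : GrothendieckTopology Scheme.{u}) {X : Scheme.{u}}

/-- The presheaf complex of an injective resolution. -/
abbrev pc {G : AbK K X} (I : InjectiveResolution G) : CochainComplex ((Over X)ᵒᵖ ⥤ AddCommGrpCat.{u + 1}) ℤ :=
  ((sheafToPresheaf (K.over X) AddCommGrpCat.{u + 1}).mapHomologicalComplex (up ℤ)).obj I.cochainComplex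

variable [Good K] [ContK K X] {F : EtCoh.Ab X} (I : InjectiveResolution ((aPullK K X).obj F))

/-- Passage to the `ℕ`-indexed complex. -/
def toN (V : Over X) (q : ℕ) (m : ℤ) (hm : (q : ℤ) = m) : (ev (pc K I) V).X m ≃+ (I.cocomplex.X q).obj.obj (op V) :=
  (((sheafToPresheaf _ _ ⋙ (evaluation _ _).obj (op V)).mapIso
    (I.cochainComplexXIso m q hm))).addCommGroupIsoToAddEquiv

omit [Good K] in
theorem toN_apply (V : Over X) (q : ℕ) (m : ℤ) (hm : (q : ℤ) = m) (z : (ev (pc K I) V).X m) :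
    toN K I V q m hm z = (I.cochainComplexXIso m q hm).hom.hom.app (op V) z := rfl

omit [Good K] in
theorem toN_rs {V₁ V : Over X} (g : V₁ ⟶ V) (q : ℕ) (m : ℤ) (hm : (q : ℤ) = m) (z : (ev (pc K I) V).X m) :
    toN K I V₁ q m hm ((rs (pc K I) g).f m z) = resS K I g q (toN K I V q m hm z) :=
  (NatTrans.naturality_apply (I.cochainComplexXIso m q hm).hom.hom g.op z)

omit [Good K] in
theorem toN_d (V : Over X) (q : ℕ) (m m' : ℤ) (hm : (q : ℤ) = m) (hm' : ((q + 1 : ℕ) : ℤ) = m')
    (z : (ev (pc K I) V).X m) :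
    toN K I V (q + 1) m' hm' ((ev (pc K I) V).d m m' z) = dV K I V q (toN K I V q m hm z) := by
  have h1 := I.cochainComplex_d m m' q (q + 1) hm hm'
  have h2 : I.cochainComplex.d m m' ≫ (I.cochainComplexXIso m' (q + 1) hm').hom =
      (I.cochainComplexXIso m q hm).hom ≫ I.cocomplex.d q (q + 1) := by
    rw [h1, Category.assoc, Category.assoc, Iso.inv_hom_id, Category.comp_id]
  exact congr($(h2).hom.app (op V) z)

theorem exists_hIso (V : Over X) (h : Ac K V I) (q : ℕ) (m : ℤ) (hm : (q : ℤ) = m) :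
    ∃ e : (ev (pc K I) V).homology m ≃+ EtCoh.H V.left ((EtCoh.pull V.hom).obj F) q,
      ∀ (z : (ev (pc K I) V).cycles m) (c : (dV K I V q).ker),
        toN K I V q m hm ((ev (pc K I) V).iCycles m z) = c →
          e ((ev (pc K I) V).homologyπ m z) = cls K I V h q c := by
  subst hm
  have hk : ∀ x : (ev (pc K I) V).X (q : ℤ), (ev (pc K I) V).d q (q + 1) x = 0 →
      toN K I V q q rfl x ∈ (dV K I V q).ker := by
    intro x hx
    rw [AddMonoidHom.mem_ker, ← toN_d K I V q q (q + 1) rfl (by push_cast; rfl), hx, map_zero]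
  let φ : ∀ x : (ev (pc K I) V).X (q : ℤ), (ev (pc K I) V).d q (q + 1) x = 0 →
      EtCoh.H V.left ((EtCoh.pull V.hom).obj F) q := fun x hx => cls K I V h q ⟨_, hk x hx⟩
  have hadd : ∀ x y hx hy hxy, φ (x + y) hxy = φ x hx + φ y hy := by
    intro x y hx hy hxy
    change cls K I V h q _ = cls K I V h q _ + cls K I V h q _
    rw [← map_add]
    congr 1
    exact Subtype.ext (map_add _ _ _)
  have hsurj : ∀ e, ∃ x hx, φ x hx = e := by
    intro ξ
    obtain ⟨c, rfl⟩ := cls_surjective K I V h q ξ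
    refine ⟨(toN K I V q q rfl).symm c, ?_, ?_⟩
    · apply (toN K I V (q + 1) (q + 1) (by push_cast; rfl)).injective
      rw [toN_d K I V q q (q + 1) rfl (by push_cast; rfl), AddEquiv.apply_symm_apply, map_zero]
      exact c.2
    · change cls K I V h q _ = _
      congr 1
      exact Subtype.ext (AddEquiv.apply_symm_apply _ _)
  have hker : ∀ x hx, φ x hx = 0 ↔ ∃ y : (ev (pc K I) V).X ((q : ℤ) - 1), (ev (pc K I) V).d _ q y = x := by
    intro x hx
    change cls K I V h q _ = 0 ↔ _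
    rcases q with _ | p
    · have h1 : cls K I V h 0 ⟨_, hk x hx⟩ = 0 ↔ x = 0 := by
        rw [← map_zero (cls K I V h 0), (cls_zero_injective K I V h).eq_iff]
        constructor
        · intro e
          exact (toN K I V 0 0 rfl).injective ((congrArg Subtype.val e).trans (map_zero _).symm)
        · rintro rfl
          exact Subtype.ext (map_zero _)
      refine h1.trans ⟨?_, ?_⟩
      · rintro rfl
        exact ⟨0, map_zero _⟩
      · rintro ⟨y, rfl⟩
        have hz : IsZero (I.cochainComplex.X (((0 : ℕ) : ℤ) - 1)) :=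
          I.cochainComplex.isZero_of_isStrictlyGE 0 _ (by simp)
        have h2 : I.cochainComplex.d (((0 : ℕ) : ℤ) - 1) ((0 : ℕ) : ℤ) = 0 := hz.eq_zero_of_src _
        exact congr($(h2).hom.app (op V) y)
    · rw [cls_eq_zero_iff]
      have e1 : ((p : ℕ) : ℤ) = ((p + 1 : ℕ) : ℤ) - 1 := by push_cast; ring
      constructor
      · rintro ⟨y, hy⟩
        refine ⟨(toN K I V p _ e1).symm y, ?_⟩
        apply (toN K I V (p + 1) _ rfl).injective
        rw [toN_d K I V p _ _ e1 rfl, AddEquiv.apply_symm_apply, hy]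
      · rintro ⟨y, rfl⟩
        exact ⟨toN K I V p _ e1 y, (toN_d K I V p _ _ e1 rfl y).symm⟩
  obtain ⟨e, he⟩ := exists_equiv (K := ev (pc K I) V) (j := (q : ℤ)) (k := (q : ℤ) + 1) (i := (q : ℤ) - 1)
    (by simp) (by simp) (E := EtCoh.H V.left ((EtCoh.pull V.hom).obj F) q) φ hadd hsurj hker
  refine ⟨e, fun z c hc => ?_⟩
  rw [he]
  change cls K I V h q _ = _
  congr 1
  exact Subtype.ext hc

/-- `H^q (pc K I (V)) ≃+ H^q_ét(V, F|_V)`. -/
def hIso (V : Over X) (h : Ac K V I) (q : ℕ) (m : ℤ) (hm : (q : ℤ) = m) :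
    (ev (pc K I) V).homology m ≃+ EtCoh.H V.left ((EtCoh.pull V.hom).obj F) q :=
  (exists_hIso K I V h q m hm).choose

theorem hIso_π (V : Over X) (h : Ac K V I) (q : ℕ) (m : ℤ) (hm : (q : ℤ) = m) (z : (ev (pc K I) V).cycles m)
    (c : (dV K I V q).ker) (hc : toN K I V q m hm ((ev (pc K I) V).iCycles m z) = c) :
    hIso K I V h q m hm ((ev (pc K I) V).homologyπ m z) = cls K I V h q c :=
  (exists_hIso K I V h q m hm).choose_spec z c hc

/-- **Naturality.** -/
theorem hIso_nat {V₁ V : Over X} (g : V₁ ⟶ V) (h₁ : Ac K V₁ I) (h : Ac K V I) (q : ℕ) (m : ℤ) (hm : (q : ℤ) = m)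
    (x : (ev (pc K I) V).homology m) :
    hIso K I V₁ h₁ q m hm (HomologicalComplex.homologyMap (rs (pc K I) g) m x) =
      EtCore.HpullVia g.left V.hom V₁.hom (Over.w g) F q (hIso K I V h q m hm x) := by
  obtain ⟨z, rfl⟩ := homologyπ_surj _ x
  have hz : toN K I V q m hm ((ev (pc K I) V).iCycles m z) ∈ (dV K I V q).ker := by
    rw [AddMonoidHom.mem_ker, ← toN_d K I V q m (m + 1) hm (by push_cast; rw [hm]), d_iCycles, map_zero]
  rw [homologyMap_π, hIso_π K I V h q m hm z ⟨_, hz⟩ rfl, ← cls_res K I g h₁ h q ⟨_, hz⟩]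
  apply hIso_π
  rw [cyclesMap_i, toN_rs]
  rfl

omit [Good K] in
theorem isZero_homology (V : Over X) (m : ℤ) (hm : m < 0) : IsZero ((ev (pc K I) V).homology m) := by
  have hz : IsZero (I.cochainComplex.X m) := I.cochainComplex.isZero_of_isStrictlyGE 0 _ hm
  have hz' : IsZero ((ev (pc K I) V).X m) :=
    (sheafToPresheaf (K.over X) AddCommGrpCat.{u + 1} ⋙ (evaluation _ AddCommGrpCat.{u + 1}).obj (op V)).map_isZero hz
  rw [← HomologicalComplex.exactAt_iff_isZero_homology]
  exact ShortComplex.exact_of_isZero_X₂ _ hz'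

theorem bijective_homologyMap {V₁ V : Over X} (g : V₁ ⟶ V) (h₁ : Ac K V₁ I) (h : Ac K V I) (q : ℕ) (m : ℤ)
    (hm : (q : ℤ) = m) (hb : Function.Bijective (EtCore.HpullVia g.left V.hom V₁.hom (Over.w g) F q)) :
    Function.Bijective (HomologicalComplex.homologyMap (rs (pc K I) g) m) := by
  have h2 : ⇑(hIso K I V₁ h₁ q m hm) ∘ ⇑(ConcreteCategory.hom (HomologicalComplex.homologyMap (rs (pc K I) g) m)) =
      ⇑(EtCore.HpullVia g.left V.hom V₁.hom (Over.w g) F q) ∘ ⇑(hIso K I V h q m hm) :=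
    funext fun x => hIso_nat K I g h₁ h q m hm x
  rw [← Function.Bijective.of_comp_iff' (hIso K I V₁ h₁ q m hm).bijective, h2]
  exact hb.comp (hIso K I V h q m hm).bijective

/-- **Isomorphisms in étale cohomology give quasi-isomorphisms.** -/
theorem quasiIso_rs {V₁ V : Over X} (g : V₁ ⟶ V) (h₁ : Ac K V₁ I) (h : Ac K V I)
    (hb : ∀ q : ℕ, Function.Bijective (EtCore.HpullVia g.left V.hom V₁.hom (Over.w g) F q)) :
    QuasiIso (rs (pc K I) g) := by
  rw [quasiIso_iff]
  intro m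
  rw [quasiIsoAt_iff_isIso_homologyMap]
  rcases lt_or_ge m 0 with hm | hm
  · exact (isZero_homology K I V m hm).isIso (isZero_homology K I V₁ m hm) _
  · obtain ⟨q, rfl⟩ := Int.eq_ofNat_of_zero_le hm
    rw [ConcreteCategory.isIso_iff_bijective]
    exact bijective_homologyMap K I g h₁ h q _ rfl (hb q)

end main

end K821.Pc
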