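import Groth.Agent.Etrest.BigPush
import Groth.Agent.Etcore.PullCoh
import Groth.Agent.HTop.K343.Basic

/-!
# Restriction from the big étale site to small étale sites is natural

For `g : T' ⟶ T`, `t : T ⟶ S`, `t' : T' ⟶ S` with `g ≫ t = t'` and `H` an abelian sheaf on the big étale site of `S`:
`kap : H|_T ⟶ g_* (H|_{T'})` and its mate `thm : g⁻¹ (H|_T) ⟶ H|_{T'}`; for `H = a⁻¹ F` the latter is the
composition isomorphism `g⁻¹ t⁻¹ F ≅ t'⁻¹ F` (`thm_pullIso`, `thmK_pullIsoK`).
-/

set_option autoImplicit false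
universe u
open CategoryTheory CategoryTheory.Limits AlgebraicGeometry Opposite

noncomputable section

namespace K821.ResNat

open Groth.Agent.Etrest.BigEtSite Groth.Agent.Etrest.BigPush Groth.Agent.Etcore.PullCoh K343.Basic

variable {T' T S : Scheme.{u}} (g : T' ⟶ T) (t : T ⟶ S) (t' : T' ⟶ S) (w : g ≫ t = t')

/-- `(W ×_T T' ⟶ T' ⟶ S) ⟶ (W ⟶ T ⟶ S)`. -/
def sig : EtCoh.bc g ⋙ uf t' ⟶ uf t where
  app W := Over.homMk (pullback.fst W.hom g : ((EtCoh.bc g).obj W).left ⟶ W.left) (by
    change pullback.fst W.hom g ≫ W.hom ≫ t = pullback.snd W.hom g ≫ t'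
    rw [← w, pullback.condition_assoc])
  naturality V W f := by
    apply Over.OverMorphism.ext
    exact (EtCoh.isPullback_bc_map g f).w

/-- `H|_T ⟶ g_* (H|_{T'})`. -/
def kap : uRes t ⟶ uRes t' ⋙ EtCoh.push g where
  app H := ⟨Functor.whiskerRight (NatTrans.op (sig g t t' w)) H.obj⟩
  naturality H H' φ := by
    apply (sheafToPresheaf _ _).map_injective
    exact ((Functor.whiskeringLeft _ _ AddCommGrpCat.{u + 1}).map (NatTrans.op (sig g t t' w))).naturality φ.hom

theorem kap_app (H : AbE S) (W : T.Etale) (s : EtCoh.sect ((uRes t).obj H) W) :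
    ((kap g t t' w).app H).hom.app (op W) s = H.obj.map ((sig g t t' w).app W).op s := rfl

/-- `g⁻¹ (H|_T) ⟶ H|_{T'}`. -/
def thm : uRes t ⋙ EtCoh.pull g ⟶ uRes t' where
  app H := ((EtCoh.pullPushAdj g).homEquiv _ _).symm ((kap g t t' w).app H)
  naturality H H' φ := by
    apply ((EtCoh.pullPushAdj g).homEquiv _ _).injective
    have h1 := (EtCoh.pullPushAdj g).homEquiv_naturality_left ((uRes t).map φ)
      (((EtCoh.pullPushAdj g).homEquiv _ _).symm ((kap g t t' w).app H'))
    have h2 := (EtCoh.pullPushAdj g).homEquiv_naturality_right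
      (((EtCoh.pullPushAdj g).homEquiv _ _).symm ((kap g t t' w).app H)) ((uRes t').map φ)
    rw [Equiv.apply_symm_apply] at h1 h2
    exact h1.trans (((kap g t t' w).naturality φ).trans h2.symm)

theorem unit_thm (H : AbE S) : (EtCoh.pullPushAdj g).unit.app ((uRes t).obj H) ≫
    (EtCoh.push g).map ((thm g t t' w).app H) = (kap g t t' w).app H := by
  have := ((EtCoh.pullPushAdj g).homEquiv _ _).apply_symm_apply ((kap g t t' w).app H)
  rw [Adjunction.homEquiv_unit] at this
  exact this

theorem thm_eta (H : AbE S) (W : T.Etale) (s : EtCoh.sect ((uRes t).obj H) W) :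
    ((thm g t t' w).app H).hom.app _ (eta g ((uRes t).obj H) W s) = H.obj.map ((sig g t t' w).app W).op s :=
  congrArg (fun k => k.hom.app (op W) s) (unit_thm g t t' w H)

theorem pullIso_eta (F : EtCoh.Ab S) (U : S.Etale) (s : EtCoh.sect F U) :
    ((pullIso t).hom.app F).hom.app _ (eta t F U s) =
      ((aPullE S).obj F).obj.map ((projNat t).app U).op (((aAdjE S).unit.app F).hom.app (op U) s) :=
  congrArg (fun k => k.hom.app (op U) s) (unit_pullIso t F)

theorem sig_projNat (U : S.Etale) : (sig g t t' w).app ((EtCoh.bc t).obj U) ≫ (projNat t).app U =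
    (uf t').map (bcComp g t t' w U) ≫ (projNat t').app U := by
  apply Over.OverMorphism.ext
  exact (bcComp_left_fst g t t' w U).symm

/-- `thm` for `a⁻¹ F`. -/
theorem thm_pullIso (F : EtCoh.Ab S) :
    (EtCoh.pull g).map ((pullIso t).hom.app F) ≫ (thm g t t' w).app ((aPullE S).obj F) =
      th g t t' w F ≫ (pullIso t').hom.app F := by
  refine pull_hom_ext₂ g t _ _ fun U s => ?_
  rw [map_comp_app, map_comp_app, eta_map, th_unit]
  refine (congrArg (fun z => ((thm g t t' w).app ((aPullE S).obj F)).hom.app _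
    (eta g ((uRes t).obj ((aPullE S).obj F)) _ z)) (pullIso_eta t F U s)).trans ?_
  refine (thm_eta g t t' w ((aPullE S).obj F) _ _).trans ?_
  refine Eq.trans ?_ (map_res ((pullIso t').hom.app F) (bcComp g t t' w U) (eta t' F U s)).symm
  refine Eq.trans ?_ (congrArg (fun z => ((uRes t').obj ((aPullE S).obj F)).obj.map (bcComp g t t' w U).op z)
    (pullIso_eta t' F U s).symm)
  have h := congrArg (fun k => ((aPullE S).obj F).obj.map k.op) (sig_projNat g t t' w U)
  rw [op_comp, op_comp, Functor.map_comp, Functor.map_comp] at h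
  exact congrArg (fun k => k.hom (((aAdjE S).unit.app F).hom.app (op U) s)) h

section K

variable (K : GrothendieckTopology Scheme.{u}) [Good K]

/-- `thm` for `K`-sheaves. -/
def thmK : uResK K t ⋙ EtCoh.pull g ⟶ uResK K t' := Functor.whiskerLeft (toE K S) (thm g t t' w)

theorem thmK_app (H : AbK K S) : (thmK g t t' w K).app H = (thm g t t' w).app ((toE K S).obj H) := rfl

theorem thmK_eta (H : AbK K S) (W : T.Etale) (s : EtCoh.sect ((uResK K t).obj H) W) :
    ((thmK g t t' w K).app H).hom.app _ (eta g ((uResK K t).obj H) W s) = H.obj.map ((sig g t t' w).app W).op s :=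
  thm_eta g t t' w ((toE K S).obj H) W s

theorem pullIsoK_inv_app [ContK K S] (F : EtCoh.Ab S) : (pullIsoK K t).inv.app F =
    (pullIso t).hom.app F ≫ (uRes t).map ((aPullIsoE K S).inv.app F) := by
  simp [pullIsoK]

/-- `thmK` for `a⁻¹ F`. -/
theorem thmK_pullIsoK [ContK K S] (F : EtCoh.Ab S) :
    (EtCoh.pull g).map ((pullIsoK K t).inv.app F) ≫ (thmK g t t' w K).app ((aPullK K S).obj F) =
      th g t t' w F ≫ (pullIsoK K t').inv.app F := by
  rw [pullIsoK_inv_app, pullIsoK_inv_app, Functor.map_comp, Category.assoc]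
  have h := (thm g t t' w).naturality ((aPullIsoE K S).inv.app F)
  refine (congrArg (fun k => (EtCoh.pull g).map ((pullIso t).hom.app F) ≫ k) h).trans ?_
  rw [← Category.assoc, thm_pullIso, Category.assoc]

end K

end K821.ResNat
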